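import Groth.Agent.VertChiLib.CompExists
import Groth.Agent.VertIntLib.Kernel
import Groth.Agent.FinPicLib.Topo
import Groth.Agent.VertIntLib.Pic

/-!
# The fibres of a model of a curve have dimension at most one
-/

set_option autoImplicit false
set_option backward.isDefEq.respectTransparency false
set_option linter.style.haveILetI false
universe u

open AlgebraicGeometry CategoryTheory CategoryTheory.Limits TopologicalSpace IsLocalRing

noncomputable section

namespace HorizLib

theorem fibre_dim_le {R : Type u} [CommRing R] [IsDomain R] [IsDiscreteValuationRing R]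
    {X : Over (Spec (CommRingCat.of R))} {C : Scheme.{u}} (hC : topologicalKrullDim C ≤ 1)
    {g : C ⟶ X.left} {f : C ⟶ Spec (CommRingCat.of (FractionRing R))}
    (hg : IsPullback g f X.hom (Spec.map (CommRingCat.ofHom (algebraMap R (FractionRing R)))))
    {n : ℕ} {Γ : Fin n → ArSurf.VertComp R X} (hΓ : Models.IsComponentList R X Γ)
    (s : Spec (CommRingCat.of R)) :
    topologicalKrullDim ↥(pullback X.hom ((Spec (CommRingCat.of R)).fromSpecResidueField s)) ≤ 1 := by
  show topologicalKrullDim ↥(X.hom.fiber s) ≤ 1
  by_contra h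
  obtain ⟨a, b, c, hab, hbc, nab, nbc⟩ := VertChiLib.exists_three (A := ↥(X.hom.fiber s)) h
  let ι := X.hom.fiberι s
  have hmem : ∀ z, X.hom (ι z) = s := fun z => (X.hom.range_fiberι s).le ⟨z, rfl⟩
  have hinj := ι.isEmbedding.injective
  rcases VertIntLib.eta_or_closedPoint (R := R) s with hs | hs
  · have hrange : Set.range g = {x | X.hom x = RelMinSmLib.eta (R := R)} := by
      rw [← hg.isoPullback_hom_fst, Scheme.Hom.comp_base, TopCat.coe_comp,
        Set.range_comp, Set.range_eq_univ.2 hg.isoPullback.hom.surjective, Set.image_univ,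
        Scheme.Pullback.range_fst, RelMinSmLib.range_genPt]
      rfl
    haveI : IsOpenImmersion g :=
      MorphismProperty.of_isPullback hg.flip (Groth.Agent.S3250.isOpenImmersion_genPt R)
    obtain ⟨a', ha⟩ := hrange.ge ((hmem a).trans hs)
    obtain ⟨b', hb⟩ := hrange.ge ((hmem b).trans hs)
    obtain ⟨c', hc⟩ := hrange.ge ((hmem c).trans hs)
    have hi := g.isOpenEmbedding.isInducing
    refine FinPicLib.not_three hC ((hi.specializes_iff (x := a') (y := b')).1 ?_)
      ((hi.specializes_iff (x := b') (y := c')).1 ?_) ?_ ?_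
    · rw [ha, hb]; exact hab.map ι.continuous
    · rw [hb, hc]; exact hbc.map ι.continuous
    · exact fun e => nab (hinj (ha.symm.trans ((congrArg _ e).trans hb)))
    · exact fun e => nbc (hinj (hb.symm.trans ((congrArg _ e).trans hc)))
  · obtain ⟨i, hi⟩ := VertIntLib.cover_of_list hΓ (ι a) ((hmem a).trans hs)
    have hcl := (Γ i).ι.isClosedEmbedding.isClosed_range
    obtain ⟨b', hb⟩ := (hab.map ι.continuous).mem_closed hcl hi
    obtain ⟨c', hc⟩ := ((hab.trans hbc).map ι.continuous).mem_closed hcl hi
    obtain ⟨a', ha⟩ := hi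
    have he := (Γ i).ι.isEmbedding.isInducing
    refine FinPicLib.not_three (Γ i).dim_eq.le ((he.specializes_iff (x := a') (y := b')).1 ?_)
      ((he.specializes_iff (x := b') (y := c')).1 ?_) ?_ ?_
    · rw [ha, hb]; exact hab.map ι.continuous
    · rw [hb, hc]; exact hbc.map ι.continuous
    · exact fun e => nab (hinj (ha.symm.trans ((congrArg _ e).trans hb)))
    · exact fun e => nbc (hinj (hb.symm.trans ((congrArg _ e).trans hc)))

end HorizLib
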