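import Groth.Agent.HorizLib.Ring
import Groth.Agent.VertIntLib.Degree
import Groth.Prelude.Def_BlowUp2

/-!
# Horizontal effective Cartier divisors with a given local equation, over a Henselian base
-/

set_option autoImplicit false
set_option backward.isDefEq.respectTransparency false
set_option linter.style.haveILetI false
universe u

open AlgebraicGeometry CategoryTheory CategoryTheory.Limits TopologicalSpace IsLocalRing

noncomputable section

namespace HorizLib

variable {R : Type u} [CommRing R] {X : Scheme.{u}} (p : X ⟶ Spec (CommRingCat.of R))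

/-- Constants on an open. -/
def ρ (U : X.Opens) : R →+* Γ(X, U) :=
  (X.presheaf.map (homOfLE (le_top : U ≤ ⊤)).op).hom.comp (VertIntLib.gρ p)

theorem ρ_res {U V : X.Opens} (h : V ≤ U) (r : R) :
    (X.presheaf.map (homOfLE h).op).hom (ρ p U r) = ρ p V r := by
  show ((X.presheaf.map (homOfLE (le_top : U ≤ ⊤)).op) ≫ X.presheaf.map (homOfLE h).op).hom _ = _
  rw [← X.presheaf.map_comp]
  rfl

theorem finiteType_ρ [LocallyOfFiniteType p] {U : X.Opens} (hU : IsAffineOpen U) : (ρ p U).FiniteType := by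
  have e : U ≤ p ⁻¹ᵁ (⊤ : (Spec (CommRingCat.of R)).Opens) := by rw [Scheme.Hom.preimage_top]; exact le_top
  have h := p.finiteType_appLE (isAffineOpen_top _) hU e
  have hs : Function.Surjective (Scheme.ΓSpecIso (CommRingCat.of R)).inv.hom :=
    (Scheme.ΓSpecIso (CommRingCat.of R)).symm.commRingCatIsoToRingEquiv.surjective
  have hcomp : ρ p U = (p.appLE ⊤ U e).hom.comp (Scheme.ΓSpecIso (CommRingCat.of R)).inv.hom := rfl
  rw [hcomp]
  exact RingHom.FiniteType.comp h (RingHom.FiniteType.of_surjective _ hs)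

theorem not_mem_basicOpen_ρ_iff [IsLocalRing R] {U : X.Opens} (z : X) (hz : z ∈ U) :
    (∀ r ∈ maximalIdeal R, z ∉ X.basicOpen (ρ p U r)) ↔ p z = closedPoint R := by
  have key : ∀ r : R, z ∈ X.basicOpen (ρ p U r) ↔ r ∉ (p z : PrimeSpectrum R).asIdeal := fun r => by
    rw [show ρ p U r = (X.presheaf.map (homOfLE (le_top : U ≤ ⊤)).op).hom (VertIntLib.gρ p r) from rfl,
      Scheme.basicOpen_res]
    have h := Scheme.preimage_basicOpen_top p ((Scheme.ΓSpecIso (CommRingCat.of R)).inv.hom r)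
    rw [basicOpen_eq_of_affine] at h
    constructor
    · intro hm
      exact h.ge hm.2
    · intro hr
      exact ⟨hz, h.le hr⟩
  constructor
  · intro h
    refine PrimeSpectrum.ext (((maximalIdeal.isMaximal R).eq_of_le (p z : PrimeSpectrum R).isPrime.ne_top
      fun r hr => ?_).symm)
    by_contra hn
    exact h r hr ((key r).2 hn)
  · intro h r hr hm
    exact (key r).1 hm (by rw [h]; exact hr)

theorem mem_fromSpec_iff {U : X.Opens} (hU : IsAffineOpen U) (f : Γ(X, U)) (Q : PrimeSpectrum Γ(X, U)) :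
    hU.fromSpec Q ∈ X.basicOpen f ↔ f ∉ Q.asIdeal := by
  have h := hU.fromSpec_preimage_basicOpen f
  constructor
  · intro hm
    exact h.le hm
  · intro hf
    exact h.ge hf

theorem primeIdealOf_fromSpec {U : X.Opens} (hU : IsAffineOpen U) (z : X) (hz : z ∈ U)
    (Q : PrimeSpectrum Γ(X, U)) (h : hU.fromSpec Q = z) : hU.primeIdealOf ⟨z, hz⟩ = Q :=
  hU.fromSpec.isOpenEmbedding.injective ((hU.fromSpec_primeIdealOf ⟨z, hz⟩).trans h.symm)

section Local

variable [IsLocalRing R]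

/-- Shrinking: `x` becomes the only point of the closed fibre of `V(f)`. -/
theorem exists_shrink [IsLocallyNoetherian X] {U : X.Opens} (hU : IsAffineOpen U) (f : Γ(X, U)) {x : X}
    (hxU : x ∈ U) (hx : IsClosed ({x} : Set X)) (hxf : x ∉ X.basicOpen f) (hxp : p x = closedPoint R)
    (hiso : ∀ z, z ∈ U → p z = closedPoint R → z ∉ X.basicOpen f → z ⤳ x → z = x) :
    ∃ s : Γ(X, U), x ∈ X.basicOpen s ∧
      ∀ z, z ∈ X.basicOpen s → p z = closedPoint R → z ∉ X.basicOpen f → z = x := by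
  haveI : IsNoetherianRing Γ(X, U) := IsLocallyNoetherian.component_noetherian ⟨U, hU⟩
  let P := hU.primeIdealOf ⟨x, hxU⟩
  have hP : P.asIdeal.IsMaximal := hU.primeIdealOf_isMaximal_of_isClosed ⟨x, hxU⟩ hx
  have hPx : hU.fromSpec P = x := hU.fromSpec_primeIdealOf ⟨x, hxU⟩
  let I : Ideal Γ(X, U) := Ideal.span {f} ⊔ (maximalIdeal R).map (ρ p U)
  have hI : ∀ Q : PrimeSpectrum Γ(X, U), I ≤ Q.asIdeal ↔
      hU.fromSpec Q ∉ X.basicOpen f ∧ p (hU.fromSpec Q) = closedPoint R := fun Q => by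
    rw [mem_fromSpec_iff, not_not, ← not_mem_basicOpen_ρ_iff p (hU.fromSpec Q)
      (hU.range_fromSpec.le ⟨Q, rfl⟩), sup_le_iff, Ideal.span_singleton_le_iff_mem, Ideal.map_le_iff_le_comap]
    refine and_congr_right fun _ => ⟨fun h r hr hm => (mem_fromSpec_iff hU _ Q).1 hm (h hr), fun h r hr => ?_⟩
    by_contra hn
    exact h r hr ((mem_fromSpec_iff hU _ Q).2 hn)
  obtain ⟨s, hs, hQ⟩ := exists_isolating P.asIdeal I (fun Q hQ hIQ hle => by
    obtain ⟨h1, h2⟩ := (hI ⟨Q, hQ⟩).1 hIQ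
    have hsp : (⟨Q, hQ⟩ : PrimeSpectrum Γ(X, U)) ⤳ P := (PrimeSpectrum.le_iff_specializes _ _).1 hle
    have he := hiso _ (hU.range_fromSpec.le ⟨⟨Q, hQ⟩, rfl⟩) h2 h1
      (by rw [← hPx]; exact hsp.map hU.fromSpec.continuous)
    exact congrArg PrimeSpectrum.asIdeal (primeIdealOf_fromSpec hU x hxU ⟨Q, hQ⟩ he).symm) hP
  refine ⟨s, ?_, fun z hz hzp hzf => ?_⟩
  · rw [← hPx]; exact (mem_fromSpec_iff hU s P).2 hs
  · obtain ⟨Q, rfl⟩ := hU.range_fromSpec.ge (X.basicOpen_le s hz)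
    have := hQ Q.asIdeal Q.isPrime ((hI Q).2 ⟨hzf, hzp⟩) ((mem_fromSpec_iff hU s Q).1 hz)
    rw [← hPx, show Q = P from PrimeSpectrum.ext this]

end Local

/-- A closed piece of `V(f)` finite over the base gives an ideal sheaf. -/
theorem exists_idealSheaf [IsSeparated p] {U : X.Opens} (hU : IsAffineOpen U) (f : Γ(X, U))
    (hfin : ((Ideal.Quotient.mk (Ideal.span {f})).comp (ρ p U)).Finite) :
    ∃ D : X.IdealSheafData, D.ideal ⟨U, hU⟩ = Ideal.span {f} ∧
      (D.support : Set X) = {z | z ∈ U ∧ z ∉ X.basicOpen f} := by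
  let mk : Γ(X, U) →+* Γ(X, U) ⧸ Ideal.span {f} := Ideal.Quotient.mk _
  let T : Scheme.{u} := Spec (CommRingCat.of (Γ(X, U) ⧸ Ideal.span {f}))
  let j : T ⟶ X := Spec.map (CommRingCat.ofHom mk) ≫ hU.fromSpec
  haveI : IsClosedImmersion (Spec.map (CommRingCat.ofHom mk)) :=
    IsClosedImmersion.spec_of_surjective _ Ideal.Quotient.mk_surjective
  have hjp : j ≫ p = Spec.map (CommRingCat.ofHom (mk.comp (ρ p U))) := by
    have h1 : hU.fromSpec ≫ p = Spec.map (CommRingCat.ofHom (ρ p U)) := by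
      have e : U ≤ p ⁻¹ᵁ (⊤ : (Spec (CommRingCat.of R)).Opens) := by rw [Scheme.Hom.preimage_top]; exact le_top
      have h := IsAffineOpen.SpecMap_appLE_fromSpec p (isAffineOpen_top _) hU e
      rw [IsAffineOpen.fromSpec_top, Scheme.isoSpec_Spec_inv, ← Spec.map_comp] at h
      rw [← h]
      congr 1
    rw [Category.assoc, h1, ← Spec.map_comp]
    rfl
  haveI : IsFinite (j ≫ p) := by
    rw [hjp]; exact (IsFinite.SpecMap_iff _).2 hfin
  haveI : IsFinite j := IsFinite.of_comp j p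
  haveI : Mono j := mono_comp _ _
  haveI : IsClosedImmersion j := (IsClosedImmersion.iff_isFinite_and_mono j).2 ⟨inferInstance, inferInstance⟩
  have hrange : Set.range j.base = {z | z ∈ U ∧ z ∉ X.basicOpen f} := by
    rw [Scheme.Hom.comp_base, TopCat.coe_comp, Set.range_comp]
    have hr : Set.range (Spec.map (CommRingCat.ofHom mk)).base = PrimeSpectrum.zeroLocus {f} := by
      show Set.range (PrimeSpectrum.comap mk) = _
      rw [range_comap_of_surjective _ _ Ideal.Quotient.mk_surjective, Ideal.mk_ker,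
        PrimeSpectrum.zeroLocus_span]
    rw [hr]
    ext z
    constructor
    · rintro ⟨Q, hQ, rfl⟩
      exact ⟨hU.range_fromSpec.le ⟨Q, rfl⟩, fun h => (mem_fromSpec_iff hU f Q).1 h (hQ rfl)⟩
    · rintro ⟨hz, hzf⟩
      obtain ⟨Q, rfl⟩ := hU.range_fromSpec.ge hz
      refine ⟨Q, ?_, rfl⟩
      rw [PrimeSpectrum.mem_zeroLocus, Set.singleton_subset_iff]
      by_contra h
      exact hzf ((mem_fromSpec_iff hU f Q).2 h)
  refine ⟨j.ker, ?_, ?_⟩
  · rw [Scheme.Hom.ker_apply]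
    have hpre : j ⁻¹ᵁ U = ⊤ := by
      rw [show j ⁻¹ᵁ U = Spec.map (CommRingCat.ofHom mk) ⁻¹ᵁ (hU.fromSpec ⁻¹ᵁ U) from rfl,
        hU.fromSpec_preimage_self, Scheme.Hom.preimage_top]
    have happ : ∀ a, (T.presheaf.map (eqToHom hpre.symm).op).hom ((j.app U).hom a) =
        (Scheme.ΓSpecIso (CommRingCat.of (Γ(X, U) ⧸ Ideal.span {f}))).inv.hom (mk a) := fun a => by
      have h : j.appLE U ⊤ hpre.ge = CommRingCat.ofHom mk ≫
          (Scheme.ΓSpecIso (CommRingCat.of (Γ(X, U) ⧸ Ideal.span {f}))).inv := by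
        rw [Scheme.Hom.comp_appLE (Spec.map (CommRingCat.ofHom mk)) hU.fromSpec]
        rw [hU.fromSpec_app_self, Category.assoc, Scheme.Hom.map_appLE]
        rw [show (Spec.map (CommRingCat.ofHom mk)).appLE ⊤ ⊤ (by simp) = (Spec.map (CommRingCat.ofHom mk)).appTop from by simp [Scheme.Hom.appLE], Scheme.ΓSpecIso_inv_naturality]
        rfl
      exact congr($h a)
    ext a
    rw [RingHom.mem_ker, ← Ideal.Quotient.eq_zero_iff_mem]
    constructor
    · intro h
      have h' := happ a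
      rw [h, map_zero] at h'
      exact (map_eq_zero_iff _
        (Scheme.ΓSpecIso (CommRingCat.of (Γ(X, U) ⧸ Ideal.span {f}))).symm.commRingCatIsoToRingEquiv.injective).1 h'.symm
    · intro h
      have h' := happ a
      rw [show mk a = 0 from h, map_zero] at h'
      exact (map_eq_zero_iff _
        (ConcreteCategory.bijective_of_isIso (T.presheaf.map (eqToHom hpre.symm).op)).1).1 h'
  · rw [Scheme.Hom.support_ker]
    show closure (Set.range j.base) = _
    rw [j.isClosedEmbedding.isClosed_range.closure_eq, hrange]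

/-- A horizontal effective Cartier divisor with prescribed equation at `x`. -/
theorem exists_divisor [HenselianLocalRing R] [IsIntegral X] [IsLocallyNoetherian X] [IsSeparated p]
    [LocallyOfFiniteType p] {U : X.Opens} (hU : IsAffineOpen U) (f : Γ(X, U)) (hf : f ≠ 0) {x : X}
    (hxU : x ∈ U) (hx : IsClosed ({x} : Set X)) (hxf : x ∉ X.basicOpen f) (hxp : p x = closedPoint R)
    (hiso : ∀ z, z ∈ U → p z = closedPoint R → z ∉ X.basicOpen f → z ⤳ x → z = x) :
    ∃ (D : X.IdealSheafData) (V : X.affineOpens) (hV : V.1 ≤ U), x ∈ V.1 ∧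
      D.ideal V = Ideal.span {(X.presheaf.map (homOfLE hV).op).hom f} ∧
      BlowUp.IsEffCartierIdeal D ∧ (D.support : Set X) ⊆ (V.1 : Set X) ∧
      (D.support : Set X) ∩ p ⁻¹' {closedPoint R} = {x} ∧
      ∀ z ∈ (D.support : Set X), z ∉ X.basicOpen f := by
  obtain ⟨s, hxs, huniq⟩ := exists_shrink p hU f hxU hx hxf hxp hiso
  set U₁ := X.basicOpen s
  have hU₁ : IsAffineOpen U₁ := hU.basicOpen s
  let f₁ : Γ(X, U₁) := (X.presheaf.map (homOfLE (X.basicOpen_le s)).op).hom f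
  have hf₁ : ∀ z, z ∈ X.basicOpen f₁ ↔ z ∈ U₁ ∧ z ∈ X.basicOpen f := fun z => by
    rw [show f₁ = (X.presheaf.map (homOfLE (X.basicOpen_le s)).op).hom f from rfl, Scheme.basicOpen_res]
    rfl
  let P := hU₁.primeIdealOf ⟨x, hxs⟩
  have hPx : hU₁.fromSpec P = x := hU₁.fromSpec_primeIdealOf ⟨x, hxs⟩
  letI := (ρ p U₁).toAlgebra
  haveI : Algebra.FiniteType R Γ(X, U₁) := finiteType_ρ p hU₁
  have hlie : ∀ Q : PrimeSpectrum Γ(X, U₁),
      Q.asIdeal.LiesOver (maximalIdeal R) ↔ p (hU₁.fromSpec Q) = closedPoint R := fun Q => by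
    rw [← not_mem_basicOpen_ρ_iff p _ (hU₁.range_fromSpec.le ⟨Q, rfl⟩)]
    constructor
    · intro h r hr hm
      exact (mem_fromSpec_iff hU₁ _ Q).1 hm (h.over.le hr)
    · intro h
      refine ⟨le_antisymm (fun r hr => ?_) (le_maximalIdeal (Ideal.IsPrime.under R Q.asIdeal).ne_top)⟩
      by_contra hn
      exact h r hr ((mem_fromSpec_iff hU₁ _ Q).2 hn)
  obtain ⟨a, haP, hfin⟩ := exists_finite_piece (R := R) f₁ P.asIdeal (by
      by_contra h
      have := (mem_fromSpec_iff hU₁ f₁ P).2 h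
      rw [hPx, hf₁] at this
      exact hxf this.2)
    ((hlie P).2 (by rw [hPx]; exact hxp)) (fun Q hQ hfQ hQl => by
      have hz : hU₁.fromSpec ⟨Q, hQ⟩ = x := by
        refine huniq _ (hU₁.range_fromSpec.le ⟨_, rfl⟩) ((hlie ⟨Q, hQ⟩).1 hQl) fun h => ?_
        exact (mem_fromSpec_iff hU₁ f₁ ⟨Q, hQ⟩).1 ((hf₁ _).2 ⟨hU₁.range_fromSpec.le ⟨_, rfl⟩, h⟩) hfQ
      exact congrArg PrimeSpectrum.asIdeal (primeIdealOf_fromSpec hU₁ x hxs ⟨Q, hQ⟩ hz).symm)
  set U₂ := X.basicOpen a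
  have hle : U₂ ≤ U₁ := X.basicOpen_le a
  have hU₂ : IsAffineOpen U₂ := hU₁.basicOpen a
  have hxa : x ∈ U₂ := by rw [← hPx]; exact (mem_fromSpec_iff hU₁ a P).2 haP
  letI : Algebra R Γ(X, U₂) := (ρ p U₂).toAlgebra
  haveI : IsLocalization.Away a Γ(X, U₂) := hU₁.isLocalization_basicOpen a
  haveI : IsScalarTower R Γ(X, U₁) Γ(X, U₂) := IsScalarTower.of_algebraMap_eq fun r => (ρ_res p hle r).symm
  let f₂ : Γ(X, U₂) := (X.presheaf.map (homOfLE (hle.trans (X.basicOpen_le s))).op).hom f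
  have hf12 : algebraMap Γ(X, U₁) Γ(X, U₂) f₁ = f₂ := by
    show ((X.presheaf.map (homOfLE (X.basicOpen_le s)).op) ≫ X.presheaf.map (homOfLE hle).op).hom f = f₂
    rw [← X.presheaf.map_comp]
    rfl
  have hfin' : ((Ideal.Quotient.mk (Ideal.span {f₂})).comp (ρ p U₂)).Finite := by
    have h := hfin Γ(X, U₂)
    rw [hf12] at h
    exact RingHom.finite_algebraMap.2 h
  obtain ⟨D, hD, hsupp⟩ := exists_idealSheaf p hU₂ f₂ hfin'
  have hsupp' : ∀ z, z ∈ (D.support : Set X) ↔ z ∈ U₂ ∧ z ∉ X.basicOpen f := fun z => by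
    rw [hsupp, Set.mem_setOf_eq]
    refine and_congr_right fun hz => not_congr ?_
    rw [show f₂ = (X.presheaf.map (homOfLE (hle.trans (X.basicOpen_le s))).op).hom f from rfl, Scheme.basicOpen_res]
    exact ⟨fun h => h.2, fun h => ⟨hz, h⟩⟩
  refine ⟨D, ⟨U₂, hU₂⟩, hle.trans (X.basicOpen_le s), hxa, hD, ?_, fun z hz => ((hsupp' z).1 hz).1, ?_,
    fun z hz => ((hsupp' z).1 hz).2⟩
  · intro z
    by_cases hz : z ∈ (D.support : Set X)
    · refine ⟨⟨U₂, hU₂⟩, ((hsupp' z).1 hz).1, f₂, ?_, hD⟩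
      haveI : Nonempty U₂ := ⟨⟨x, hxa⟩⟩
      refine mem_nonZeroDivisors_of_ne_zero fun h0 => hf ?_
      haveI : Nonempty U := ⟨⟨x, hxU⟩⟩
      exact map_injective_of_isIntegral X (homOfLE (hle.trans (X.basicOpen_le s))) (h0.trans (map_zero _).symm)
    · obtain ⟨V, hVaff, hzV, hV⟩ := exists_isAffineOpen_mem_and_subset (U := D.support.compl) hz
      refine ⟨⟨V, hVaff⟩, hzV, 1, one_mem _, ?_⟩
      rw [Ideal.span_singleton_one]
      by_contra hne
      obtain ⟨M, hM, hle'⟩ := Ideal.exists_le_maximal _ hne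
      haveI := hM.isPrime
      let Q : PrimeSpectrum Γ(X, V) := ⟨M, inferInstance⟩
      have hin : hVaff.fromSpec Q ∈ (D.support : Set X) ∩ V := by
        rw [D.coe_support_inter ⟨V, hVaff⟩]
        refine ⟨(Scheme.mem_zeroLocus_iff _ _ _).2 fun g hg h => ?_, hVaff.range_fromSpec.le ⟨Q, rfl⟩⟩
        exact (mem_fromSpec_iff hVaff g Q).1 h (hle' hg)
      exact hV hin.2 hin.1
  · ext z
    constructor
    · rintro ⟨hz, hzp⟩
      exact huniq z (hle ((hsupp' z).1 hz).1) hzp ((hsupp' z).1 hz).2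
    · rintro rfl
      exact ⟨(hsupp' z).2 ⟨hxa, hxf⟩, hxp⟩

end HorizLib
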