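import Groth.Agent.HorizLib.Lift
import Groth.Agent.VertChiLib.CompExists
import Groth.Agent.VertIntLib.Exists
import Groth.Agent.VertIntLib.Kernel
import Mathlib.RingTheory.Ideal.KrullsHeightTheorem

/-!
# Horizontal divisors through a closed point of a two-dimensional scheme
-/

set_option autoImplicit false
set_option backward.isDefEq.respectTransparency false
set_option linter.style.haveILetI false
universe u

open AlgebraicGeometry CategoryTheory CategoryTheory.Limits TopologicalSpace IsLocalRing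

noncomputable section

namespace HorizLib

variable {R : Type u} [CommRing R] [IsDomain R] [IsDiscreteValuationRing R]
  {X : Over (Spec (CommRingCat.of R))} [IsIntegral X.left] [Flat X.hom] [IsProper X.hom]
  (hd : topologicalKrullDim X.left = 2)

omit [IsProper X.hom] in
theorem asIdeal_eq_bot_of_ne {z : X.left} (h : X.hom z ≠ closedPoint R) :
    (X.hom z : PrimeSpectrum R).asIdeal = ⊥ := by
  by_contra hne
  exact h (PrimeSpectrum.ext (IsLocalRing.eq_maximalIdeal ((X.hom z : PrimeSpectrum R).isPrime.isMaximal hne)))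

include hd in
/-- A closed point of the closed fibre is not a generic point of it. -/
theorem not_isFibGen {x : X.left} (hx : IsClosed ({x} : Set X.left)) (hxp : X.hom x = closedPoint R) :
    ¬ VertIntLib.IsFibGen x := fun hg => by
  obtain ⟨n, Γ, hΓ⟩ := VertChiLib.exists_list_of_dim_two (X := X) hd
  have hne : Nonempty (Fin n) := by
    obtain ⟨i, -⟩ := VertIntLib.cover_of_list hΓ x hxp
    exact ⟨i⟩
  obtain ⟨i⟩ := hne
  have h1 := VertIntLib.dim_closure hxp hg
  have h2 := VertIntLib.dim_closure (VertIntLib.genPt_over (Γ i)) (VertIntLib.isFibGen_of_list hΓ i)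
  rw [← VertIntLib.range_eq_closure, ← (Γ i).ι.isEmbedding.toHomeomorph.isHomeomorph.topologicalKrullDim_eq,
    (Γ i).dim_eq, ← h1, hx.closure_eq] at h2
  haveI : Subsingleton ({x} : Set X.left) := Set.subsingleton_coe _ |>.2 Set.subsingleton_singleton
  have := topologicalKrullDim_zero_of_discreteTopology (X := ({x} : Set X.left))
  rw [← h2] at this
  exact (not_le.2 zero_lt_one) this

variable {U : X.left.Opens} (hU : IsAffineOpen U) {x : X.left} (hxU : x ∈ U)
  (hx : IsClosed ({x} : Set X.left)) (hxp : X.hom x = closedPoint R)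

include hd hx hxp hxU hU in
/-- A function on `U` vanishing at `x` but at no generic point of the closed fibre through `x`. -/
theorem exists_fun : ∃ f : Γ(X.left, U), f ≠ 0 ∧ x ∉ X.left.basicOpen f ∧
    ∀ z, z ∈ U → X.hom z = closedPoint R → z ∉ X.left.basicOpen f → z ⤳ x → z = x := by
  classical
  haveI : IsLocallyNoetherian X.left := LocallyOfFiniteType.isLocallyNoetherian X.hom
  haveI : IsNoetherianRing Γ(X.left, U) := IsLocallyNoetherian.component_noetherian ⟨U, hU⟩
  let P := hU.primeIdealOf ⟨x, hxU⟩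
  have hP : P.asIdeal.IsMaximal := hU.primeIdealOf_isMaximal_of_isClosed ⟨x, hxU⟩ hx
  have hPx : hU.fromSpec P = x := hU.fromSpec_primeIdealOf ⟨x, hxU⟩
  let I : Ideal Γ(X.left, U) := (maximalIdeal R).map (ρ X.hom U)
  have hI : ∀ Q : PrimeSpectrum Γ(X.left, U), I ≤ Q.asIdeal ↔ X.hom (hU.fromSpec Q) = closedPoint R := fun Q => by
    rw [← not_mem_basicOpen_ρ_iff X.hom (hU.fromSpec Q) (hU.range_fromSpec.le ⟨Q, rfl⟩), Ideal.map_le_iff_le_comap]
    refine ⟨fun h r hr hm => (mem_fromSpec_iff hU _ Q).1 hm (h hr), fun h r hr => ?_⟩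
    by_contra hn
    exact h r hr ((mem_fromSpec_iff hU _ Q).2 hn)
  have hg := not_isFibGen hd hx hxp
  simp only [VertIntLib.IsFibGen, not_forall] at hg
  obtain ⟨z, hz, hzx, hne⟩ := hg
  have hzU : z ∈ U := hzx.mem_open U.2 hxU
  obtain ⟨Qz, hQz⟩ := hU.range_fromSpec.ge hzU
  let T := ((Ideal.finite_minimalPrimes_of_isNoetherianRing _ I).toFinset).filter (· ≤ P.asIdeal)
  have hT : ∀ Q ∈ T, ¬ P.asIdeal ≤ Q := fun Q hQ hle => by
    simp only [T, Finset.mem_filter, Set.Finite.mem_toFinset] at hQ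
    obtain rfl : Q = P.asIdeal := le_antisymm hQ.2 hle
    have hle' : Qz.asIdeal ≤ P.asIdeal := (PrimeSpectrum.le_iff_specializes _ _).2
      (hU.fromSpec.isOpenEmbedding.isInducing.specializes_iff.1 (by rw [hQz, hPx]; exact hzx))
    have he : Qz.asIdeal = P.asIdeal := le_antisymm hle' (hQ.1.2 ⟨Qz.isPrime, (hI Qz).2 (by rw [hQz]; exact hz)⟩ hle')
    exact hne (by rw [← hQz, ← hPx, PrimeSpectrum.ext he])
  obtain ⟨f, hfP, hf⟩ : ∃ f ∈ P.asIdeal, ∀ Q ∈ T, f ∉ Q := by
    by_contra! h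
    have hsub : (P.asIdeal : Set Γ(X.left, U)) ⊆ ⋃ Q ∈ (T : Set (Ideal Γ(X.left, U))), (Q : Set _) := fun a ha => by
      obtain ⟨Q, hQ, haQ⟩ := h a ha
      exact Set.mem_biUnion hQ haQ
    obtain ⟨Q, hQ, hle⟩ := (Ideal.subset_union_prime (f := id) ⊥ ⊥ fun Q hQ _ _ => by
      simp only [T, Finset.mem_filter, Set.Finite.mem_toFinset] at hQ
      exact hQ.1.1.1).1 hsub
    exact hT Q hQ hle
  obtain ⟨Q₁, hQ₁, hQ₁le⟩ := Ideal.exists_minimalPrimes_le (J := P.asIdeal) ((hI P).2 (by rw [hPx]; exact hxp))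
  refine ⟨f, fun h0 => ?_, fun hm => ?_, fun w hwU hwp hwf hwx => ?_⟩
  · refine hf Q₁ (by simp [T, Set.Finite.mem_toFinset, hQ₁, hQ₁le]) (h0 ▸ Q₁.zero_mem)
  · rw [← hPx] at hm
    exact (mem_fromSpec_iff hU f P).1 hm hfP
  · obtain ⟨Qw, rfl⟩ := hU.range_fromSpec.ge hwU
    have hfw : f ∈ Qw.asIdeal := by
      by_contra hn
      exact hwf ((mem_fromSpec_iff hU f Qw).2 hn)
    have hle' : Qw.asIdeal ≤ P.asIdeal := (PrimeSpectrum.le_iff_specializes _ _).2
      (hU.fromSpec.isOpenEmbedding.isInducing.specializes_iff.1 (by rw [hPx]; exact hwx))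
    obtain ⟨Q₀, hQ₀, hQ₀le⟩ := Ideal.exists_minimalPrimes_le ((hI Qw).2 hwp)
    have hQ₀T : Q₀ ∈ T := by simp [T, Set.Finite.mem_toFinset, hQ₀, hQ₀le.trans hle']
    let q₀ : PrimeSpectrum Γ(X.left, U) := ⟨Q₀, hQ₀.1.1⟩
    by_contra hwne
    refine RelMinSmLib.not_four hd.le ((genericPoint_spec X.left).specializes trivial : _ ⤳ hU.fromSpec q₀)
      (((PrimeSpectrum.le_iff_specializes q₀ Qw).1 hQ₀le).map hU.fromSpec.continuous) hwx ?_ ?_ hwne
    · intro h
      have := (hI q₀).1 hQ₀.1.2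
      rw [← h, VertIntLib.genericPoint_over] at this
      exact VertIntLib.eta_ne_closedPoint this
    · intro h
      have := hU.fromSpec.isOpenEmbedding.injective h
      exact hf Q₀ hQ₀T (by rw [show Q₀ = Qw.asIdeal from congrArg PrimeSpectrum.asIdeal this]; exact hfw)

include hd hx hxp in
/-- Every point of a divisor through `x` with local equation is a specialisation of one in the generic fibre. -/
theorem horizontal {D : X.left.IdealSheafData} {V : X.left.affineOpens} (hxV : x ∈ V.1) {f : Γ(X.left, V.1)}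
    (_hf : f ≠ 0) (hD : D.ideal V = Ideal.span {f})
    (hfib : (D.support : Set X.left) ∩ X.hom ⁻¹' {closedPoint R} = {x}) :
    ∀ z ∈ (D.support : Set X.left), ∃ z' ∈ (D.support : Set X.left), z' ⤳ z ∧
      (X.hom z' : PrimeSpectrum R).asIdeal = ⊥ := by
  intro z hz
  by_cases hzp : X.hom z = closedPoint R
  swap
  · exact ⟨z, hz, specializes_rfl, asIdeal_eq_bot_of_ne hzp⟩
  obtain rfl : z = x := hfib.le ⟨hz, hzp⟩
  haveI : IsLocallyNoetherian X.left := LocallyOfFiniteType.isLocallyNoetherian X.hom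
  haveI : IsNoetherianRing Γ(X.left, V.1) := IsLocallyNoetherian.component_noetherian V
  haveI : Nonempty V.1 := ⟨⟨z, hxV⟩⟩
  have hV := V.2
  let P := hV.primeIdealOf ⟨z, hxV⟩
  have hPx : hV.fromSpec P = z := hV.fromSpec_primeIdealOf ⟨z, hxV⟩
  have hmem : ∀ Q : PrimeSpectrum Γ(X.left, V.1), f ∈ Q.asIdeal → hV.fromSpec Q ∈ (D.support : Set X.left) :=
    fun Q hQ => by
      have h : hV.fromSpec Q ∈ (D.support : Set X.left) ∩ V.1 := by
        rw [D.coe_support_inter V, hD, Scheme.zeroLocus_span]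
        refine ⟨(Scheme.mem_zeroLocus_iff _ _ _).2 fun g hg h => ?_, hV.range_fromSpec.le ⟨Q, rfl⟩⟩
        rw [Set.mem_singleton_iff] at hg
        exact (mem_fromSpec_iff hV g Q).1 h (hg ▸ hQ)
      exact h.1
  have hfP : f ∈ P.asIdeal := by
    by_contra hn
    have hm := (mem_fromSpec_iff hV f P).2 hn
    rw [hPx] at hm
    have h : z ∈ (D.support : Set X.left) ∩ V.1 := ⟨hz, hxV⟩
    rw [D.coe_support_inter V, hD, Scheme.zeroLocus_span] at h
    exact (Scheme.mem_zeroLocus_iff _ _ _).1 h.1 f rfl hm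
  obtain ⟨Q, hQ, hQle⟩ := Ideal.exists_minimalPrimes_le ((Ideal.span_singleton_le_iff_mem _).2 hfP)
  let q : PrimeSpectrum Γ(X.left, V.1) := ⟨Q, hQ.1.1⟩
  have hqD := hmem q ((Ideal.span_singleton_le_iff_mem _).1 hQ.1.2)
  have hqx : hV.fromSpec q ⤳ z := by
    rw [← hPx]; exact ((PrimeSpectrum.le_iff_specializes q P).1 hQle).map hV.fromSpec.continuous
  by_cases hqp : X.hom (hV.fromSpec q) = closedPoint R
  swap
  · exact ⟨_, hqD, hqx, asIdeal_eq_bot_of_ne hqp⟩
  exfalso
  have hqP : q = P := hV.fromSpec.isOpenEmbedding.injective ((hfib.le ⟨hqD, hqp⟩).trans hPx.symm)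
  have hQP : Q = P.asIdeal := congrArg PrimeSpectrum.asIdeal hqP
  have hh1 : P.asIdeal.height ≤ 1 := Ideal.height_le_one_of_isPrincipal_of_mem_minimalPrimes _ _ (hQP ▸ hQ)
  have hg := not_isFibGen hd hx hxp
  simp only [VertIntLib.IsFibGen, not_forall] at hg
  obtain ⟨w, hw, hwz, hne⟩ := hg
  obtain ⟨Qw, hQw⟩ := hV.range_fromSpec.ge (hwz.mem_open V.1.2 hxV)
  have hlt : Qw.asIdeal < P.asIdeal := lt_of_le_of_ne
    ((PrimeSpectrum.le_iff_specializes _ _).2
      (hV.fromSpec.isOpenEmbedding.isInducing.specializes_iff.1 (by rw [hQw, hPx]; exact hwz)))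
    fun he => hne (by rw [← hQw, ← hPx, PrimeSpectrum.ext he])
  haveI : P.asIdeal.FiniteHeight := Ideal.finiteHeight_of_isNoetherianRing _
  have h2 := (Ideal.height_strict_mono_of_isPrime_of_isPrime hlt).trans_le hh1
  rw [Order.lt_one_iff, Ideal.height_eq_zero_iff, IsDomain.minimalPrimes_eq_singleton_bot, Set.mem_singleton_iff] at h2
  have hgen : hV.fromSpec (⟨⊥, Ideal.isPrime_bot⟩ : PrimeSpectrum Γ(X.left, V.1)) = w := by
    rw [← hQw]; exact congrArg _ (PrimeSpectrum.ext h2.symm)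
  have : w ⤳ genericPoint X.left := by
    obtain ⟨Qη, hQη⟩ := hV.range_fromSpec.ge
      (((genericPoint_spec X.left).specializes trivial : genericPoint X.left ⤳ z).mem_open V.1.2 hxV)
    rw [← hgen, ← hQη]
    exact ((PrimeSpectrum.le_iff_specializes (⟨⊥, Ideal.isPrime_bot⟩ : PrimeSpectrum Γ(X.left, V.1)) Qη).1 bot_le).map
      hV.fromSpec.continuous
  have he : w = genericPoint X.left := (this.antisymm ((genericPoint_spec X.left).specializes trivial)).eq
  rw [he, VertIntLib.genericPoint_over] at hw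
  exact VertIntLib.eta_ne_closedPoint hw

end HorizLib
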