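import Groth.Agent.HenselLib.FiniteDecomp
import Mathlib.RingTheory.ZariskisMainTheorem

/-!
# An isolated point of the closed fibre of a hypersurface spans a finite piece over a Henselian base
-/

set_option autoImplicit false
universe u

open IsLocalRing

namespace HorizLib

/-- A point isolated among the primes containing an ideal is cut out by a basic open. -/
theorem exists_isolating {A : Type u} [CommRing A] [IsNoetherianRing A] (P : Ideal A) [P.IsPrime]
    (I : Ideal A) (h : ∀ Q : Ideal A, Q.IsPrime → I ≤ Q → Q ≤ P → Q = P) (hP : P.IsMaximal) :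
    ∃ s, s ∉ P ∧ ∀ Q : Ideal A, Q.IsPrime → I ≤ Q → s ∉ Q → Q = P := by
  classical
  let T := (Ideal.finite_minimalPrimes_of_isNoetherianRing A I).toFinset.filter (fun Q => Q ≠ P)
  have hT : ∀ Q ∈ T, ∃ s, s ∈ Q ∧ s ∉ P := fun Q hQ => by
    simp only [T, Finset.mem_filter, Set.Finite.mem_toFinset] at hQ
    exact SetLike.not_le_iff_exists.1 fun hle => hQ.2 (h Q hQ.1.1.1 hQ.1.1.2 hle)
  choose s hsQ hsP using hT
  refine ⟨∏ Q ∈ T.attach, s Q.1 Q.2, fun hmem => ?_, fun Q hQ hIQ hns => ?_⟩
  · obtain ⟨Q, -, hQ⟩ := (‹P.IsPrime›.prod_mem_iff).1 hmem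
    exact hsP Q.1 Q.2 hQ
  · obtain ⟨Q₀, hQ₀, hle⟩ := Ideal.exists_minimalPrimes_le (J := Q) hIQ
    by_cases hQP : Q₀ = P
    · exact (hP.eq_of_le hQ.ne_top (hQP ▸ hle)).symm
    · have hmem : Q₀ ∈ T := by simp [T, Set.Finite.mem_toFinset, hQ₀, hQP]
      exact absurd (Ideal.prod_mem (ι := {x // x ∈ T}) (I := Q) (Finset.mem_attach _ ⟨Q₀, hmem⟩)
        (hle (hsQ Q₀ hmem))) hns

/-- The finite piece of `A/(f)` around the only point of its closed fibre. -/
theorem exists_finite_piece {R A : Type u} [CommRing R] [HenselianLocalRing R] [CommRing A] [Algebra R A]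
    [Algebra.FiniteType R A] (f : A) (P : Ideal A) [P.IsPrime] (hf : f ∈ P)
    (hPm : P.LiesOver (maximalIdeal R))
    (huniq : ∀ Q : Ideal A, Q.IsPrime → f ∈ Q → Q.LiesOver (maximalIdeal R) → Q = P) :
    ∃ a, a ∉ P ∧ ∀ (A' : Type u) [CommRing A'] [Algebra A A'] [Algebra R A'] [IsScalarTower R A A']
      [IsLocalization.Away a A'], Module.Finite R (A' ⧸ Ideal.span ({algebraMap A A' f} : Set A')) := by
  classical
  let S := A ⧸ Ideal.span ({f} : Set A)
  obtain ⟨e, he, hfin, hnq⟩ := HenselLib.exists_idem_quasiFinite (A := R) (B := S)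
  obtain ⟨a, rfl⟩ := Ideal.Quotient.mk_surjective (I := Ideal.span ({f} : Set A)) e
  refine ⟨a, fun haP => ?_, ?_⟩
  · let S' := S ⧸ Ideal.span ({Ideal.Quotient.mk (Ideal.span ({f} : Set A)) a} : Set S)
    let π : A →ₐ[R] S' := (Ideal.Quotient.mkₐ R _).comp (Ideal.Quotient.mkₐ R _)
    have hπ : Function.Surjective π := Ideal.Quotient.mk_surjective.comp Ideal.Quotient.mk_surjective
    have hker : RingHom.ker π.toRingHom ≤ P := by
      intro x hx
      have hx' : Ideal.Quotient.mk (Ideal.span ({f} : Set A)) x ∈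
          Ideal.span ({Ideal.Quotient.mk (Ideal.span ({f} : Set A)) a} : Set S) := Ideal.Quotient.eq_zero_iff_mem.1 hx
      obtain ⟨y, hy⟩ := Ideal.mem_span_singleton'.1 hx'
      obtain ⟨y, rfl⟩ := Ideal.Quotient.mk_surjective y
      rw [← map_mul, Ideal.Quotient.eq] at hy
      obtain ⟨z, hz⟩ := Ideal.mem_span_singleton'.1 hy
      have hxe : x = y * a - z * f := by rw [hz]; ring
      rw [hxe]
      exact P.sub_mem (P.mul_mem_left _ haP) (P.mul_mem_left _ hf)
    let q : Ideal S' := P.map π.toRingHom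
    haveI hq : q.IsPrime := Ideal.map_isPrime_of_surjective hπ hker
    have hqc : q.comap π.toRingHom = P := by
      exact (Ideal.comap_map_of_surjective π.toRingHom hπ P).trans (by rw [← RingHom.ker_eq_comap_bot, sup_eq_left.2 hker])
    have hlie : ∀ q' : Ideal S', q'.comap (algebraMap R S') = maximalIdeal R → q'.IsPrime →
        q'.comap π.toRingHom = P := fun q' hq' hp => by
      haveI := hp
      refine huniq _ (Ideal.IsPrime.comap _) ?_ ⟨?_⟩
      · show π f ∈ q'
        have : π f = 0 := by
          show Ideal.Quotient.mk _ (Ideal.Quotient.mk _ f) = 0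
          rw [Ideal.Quotient.eq_zero_iff_mem.2 (Ideal.mem_span_singleton_self f), map_zero]
        rw [this]; exact q'.zero_mem
      · rw [Ideal.under, Ideal.comap_comap, show π.toRingHom.comp (algebraMap R A) = algebraMap R S' from
          RingHom.ext fun r => π.commutes r, hq']
    haveI hql : q.LiesOver (maximalIdeal R) := ⟨by
      rw [Ideal.under, show algebraMap R S' = π.toRingHom.comp (algebraMap R A) from
          RingHom.ext fun r => (π.commutes r).symm, ← Ideal.comap_comap, hqc]
      exact hPm.over⟩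
    haveI : Algebra.FiniteType R S' := Algebra.FiniteType.of_surjective π hπ
    refine hnq q hql ?_
    refine Algebra.QuasiFiniteAt.of_isOpen_singleton_fiber ⟨q, hq⟩ ?_
    convert isOpen_univ
    refine Set.eq_univ_of_forall fun q' => ?_
    rw [Set.mem_singleton_iff]
    refine Subtype.ext (PrimeSpectrum.ext (Ideal.comap_injective_of_surjective π.toRingHom hπ ?_))
    show q'.1.asIdeal.comap π.toRingHom = q.comap π.toRingHom
    rw [hqc]
    refine hlie _ ?_ q'.1.isPrime
    have h := congrArg PrimeSpectrum.asIdeal (show q'.1.comap (algebraMap R S') = _ from q'.2)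
    simp only [PrimeSpectrum.comap_asIdeal] at h
    rw [h]
    exact hql.over.symm
  · intro A' _ _ _ _ hA'
    let T := A' ⧸ Ideal.span ({algebraMap A A' f} : Set A')
    have hu : IsUnit (algebraMap A T a) := by
      rw [IsScalarTower.algebraMap_apply A A' T]
      exact (IsLocalization.Away.algebraMap_isUnit a).map _
    let ψ : S →ₐ[R] T := Ideal.Quotient.liftₐ _ (IsScalarTower.toAlgHom R A T) fun x hx => by
      obtain ⟨y, rfl⟩ := Ideal.mem_span_singleton'.1 hx
      show algebraMap A T (y * f) = 0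
      rw [map_mul, show algebraMap A T f = 0 from by
        rw [IsScalarTower.algebraMap_apply A A' T]
        exact Ideal.Quotient.eq_zero_iff_mem.2 (Ideal.mem_span_singleton_self _), mul_zero]
    have ha1 : algebraMap A T a = 1 := by
      have h := congrArg ψ he.eq
      rw [map_mul] at h
      exact hu.mul_left_cancel (h.trans (mul_one _).symm)
    let χ : (S ⧸ Ideal.span ({1 - Ideal.Quotient.mk (Ideal.span ({f} : Set A)) a} : Set S)) →ₐ[R] T :=
      Ideal.Quotient.liftₐ _ ψ fun x hx => by
        obtain ⟨y, rfl⟩ := Ideal.mem_span_singleton'.1 hx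
        rw [map_mul, map_sub, map_one]
        show ψ y * (1 - algebraMap A T a) = 0
        rw [ha1, sub_self, mul_zero]
    refine Module.Finite.of_surjective χ.toLinearMap fun t => ?_
    obtain ⟨t, rfl⟩ := Ideal.Quotient.mk_surjective t
    obtain ⟨⟨x, ⟨_, k, rfl⟩⟩, hx⟩ := IsLocalization.surj (Submonoid.powers a) t
    refine ⟨Ideal.Quotient.mk _ (Ideal.Quotient.mk _ x), ?_⟩
    show algebraMap A T x = _
    have h := congrArg (Ideal.Quotient.mk (Ideal.span ({algebraMap A A' f} : Set A'))) hx
    rw [map_mul] at h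
    refine (h.symm.trans ?_)
    rw [show Ideal.Quotient.mk (Ideal.span ({algebraMap A A' f} : Set A')) (algebraMap A A' (a ^ k)) =
      algebraMap A T (a ^ k) from rfl, map_pow, ha1, one_pow, mul_one]

end HorizLib
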