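import Groth.Agent.VertChiLib.RedLift
import Groth.Agent.PicAlgzLib.System
import Groth.Agent.FormalCohLib.Proper
import Groth.Agent.S3501

/-!
# Lifting roots of classes along the thickenings of the closed fibre
-/

set_option autoImplicit false
set_option backward.isDefEq.respectTransparency false
set_option linter.style.haveILetI false
set_option maxHeartbeats 1000000
universe u

open AlgebraicGeometry CategoryTheory CategoryTheory.Limits TopologicalSpace IsLocalRing
open KFlatLib (pb)
open PicAlgzLib (thickOf incl)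

noncomputable section

namespace HorizLib

/-- Pullback of classes along a composite. -/
theorem pullHom_comp {X Y Z : Scheme.{u}} [PicGrp.Law X] [PicGrp.Law Y] [PicGrp.Law Z] (a : X ⟶ Y) (b : Y ⟶ Z)
    (c : PicLoc.PicSet Z) :
    PicGrp.pullHom a (VertChiLib.pullMul a) (PicGrp.pullHom b (VertChiLib.pullMul b) c) =
      PicGrp.pullHom (a ≫ b) (VertChiLib.pullMul _) c := by
  obtain ⟨L, hL, rfl⟩ := PicGrp.exists_eq_cls c
  exact Subtype.ext ((PicGrp.cl_eq_cl_iff _ _).2 ⟨(Scheme.Modules.pullbackComp a b).app L⟩)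

theorem pullHom_congr {X Y : Scheme.{u}} [PicGrp.Law X] [PicGrp.Law Y] {a b : X ⟶ Y} (h : a = b)
    (c : PicLoc.PicSet Y) :
    PicGrp.pullHom a (VertChiLib.pullMul a) c = PicGrp.pullHom b (VertChiLib.pullMul b) c := by
  subst h; rfl

theorem pullHom_id {Y : Scheme.{u}} [PicGrp.Law Y] (c : PicLoc.PicSet Y) :
    PicGrp.pullHom (𝟙 Y) (VertChiLib.pullMul _) c = c := by
  obtain ⟨L, hL, rfl⟩ := PicGrp.exists_eq_cls c
  exact Subtype.ext ((PicGrp.cl_eq_cl_iff _ _).2 ⟨(Scheme.Modules.pullbackId Y).app L⟩)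

/-- Roots in the kernel of a square zero thickening. -/
theorem exists_root_ker {Z W : Scheme.{u}} [PicGrp.Law Z] [PicGrp.Law W] (i : Z ⟶ W) [IsClosedImmersion i]
    (hI : i.ker * i.ker = ⊥) (q : ℕ) (hu : IsUnit (q : Γ(W, ⊤))) (c : PicLoc.PicSet W)
    (hc : PicGrp.pullHom i (VertChiLib.pullMul i) c = 1) :
    ∃ s : PicLoc.PicSet W, PicGrp.pullHom i (VertChiLib.pullMul i) s = 1 ∧ s ^ q = c := by
  letI := VertChiLib.picLaw i.ker.subscheme
  have hmul := VertChiLib.pullMul i.ker.subschemeι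
  have hfac : i.toImage ≫ i.ker.subschemeι = i := i.toImage_imageι
  have hmem : c ∈ (PicGrp.pullHom i.ker.subschemeι hmul).ker := by
    rw [MonoidHom.mem_ker,
      ← pullHom_congr (show inv i.toImage ≫ i = i.ker.subschemeι by rw [IsIso.inv_comp_eq]; exact hfac.symm) c,
      ← pullHom_comp, hc, map_one]
  rw [PicH1Lib.ker_pullHom hI hmul] at hmem
  obtain ⟨v, rfl⟩ := hmem
  letI : Module Γ(W, ⊤) (Coh.HH W (ClSub.idealMod i.ker) 1) := Coh.moduleΓtop _ 1
  obtain ⟨u, hu'⟩ := hu
  refine ⟨PicH1Lib.alphaHom hI (Multiplicative.ofAdd ((↑u⁻¹ : Γ(W, ⊤)) • v.toAdd)), ?_, ?_⟩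
  · rw [← pullHom_congr hfac, ← pullHom_comp]
    have : PicH1Lib.alphaHom hI (Multiplicative.ofAdd ((↑u⁻¹ : Γ(W, ⊤)) • v.toAdd)) ∈
        (PicGrp.pullHom i.ker.subschemeι hmul).ker := by
      rw [PicH1Lib.ker_pullHom hI hmul]; exact ⟨_, rfl⟩
    rw [MonoidHom.mem_ker] at this
    rw [this, map_one]
  · rw [← map_pow]
    congr 1
    refine Multiplicative.toAdd.injective ?_
    rw [toAdd_pow, toAdd_ofAdd, ← Nat.cast_smul_eq_nsmul Γ(W, ⊤) q, ← hu', smul_smul, Units.mul_inv, one_smul]

variable {R : Type u} [CommRing R] [IsLocalRing R] [IsNoetherianRing R]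
  {X : Over (Spec (CommRingCat.of R))} [IsProper X.hom]

theorem isClosedImmersion_incl (n : ℕ) : IsClosedImmersion (incl (maximalIdeal R) X.hom n) := by
  haveI : IsClosedImmersion (CohB1.specQuot (maximalIdeal R) n) :=
    IsClosedImmersion.spec_of_surjective _ Ideal.Quotient.mk_surjective
  exact inferInstanceAs (IsClosedImmersion (pullback.fst X.hom (CohB1.specQuot (maximalIdeal R) n)))

theorem ker_incl (n : ℕ) :
    (incl (maximalIdeal R) X.hom n).ker = ((Curv2.idealSheaf R (maximalIdeal R)).comap X.hom) ^ (n + 1) := by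
  haveI : IsClosedImmersion (CohB1.specQuot (maximalIdeal R) n) :=
    IsClosedImmersion.spec_of_surjective _ Ideal.Quotient.mk_surjective
  have key : ∀ N : ℕ, (Curv2.idealSheaf R (maximalIdeal R ^ (N + 1))).comap X.hom =
      (Curv2.idealSheaf R (maximalIdeal R)).comap X.hom ^ (N + 1) := fun N => by
    induction N with
    | zero => rw [pow_one, pow_one]
    | succ N ih => rw [pow_succ (maximalIdeal R), VertChiLib.idealSheaf_mul, HilbPts.SC.comap_mul, ih, ← pow_succ]
  show (pullback.fst X.hom (CohB1.specQuot (maximalIdeal R) n)).ker = _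
  rw [← VertChiLib.comap_ker, CohB1.specQuot, VertChiLib.ker_specMap, Ideal.mk_ker]
  exact key n

theorem sq_zero (n : ℕ) :
    ((thickOf (maximalIdeal R) X.hom).i n).ker * ((thickOf (maximalIdeal R) X.hom).i n).ker = ⊥ := by
  haveI := isClosedImmersion_incl (X := X) (n + 1)
  haveI := isClosedImmersion_incl (X := X) n
  have hi := PicAlgzLib.i_incl (maximalIdeal R) X.hom n
  set i := (thickOf (maximalIdeal R) X.hom).i n
  have hle : i.ker ≤ (incl (maximalIdeal R) X.hom n).ker.comap (incl (maximalIdeal R) X.hom (n + 1)) := by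
    rw [VertChiLib.comap_ker]
    have h : pullback.fst (incl (maximalIdeal R) X.hom (n + 1)) (incl (maximalIdeal R) X.hom n) =
        pullback.snd (incl (maximalIdeal R) X.hom (n + 1)) (incl (maximalIdeal R) X.hom n) ≫ i := by
      rw [← cancel_mono (incl (maximalIdeal R) X.hom (n + 1)), Category.assoc, hi, pullback.condition]
    rw [h]
    exact Scheme.Hom.le_ker_comp _ _
  refine le_bot_iff.1 ((mul_le_mul' hle hle).trans ?_)
  rw [← HilbPts.SC.comap_mul, ← Scheme.IdealSheafData.le_map_iff_comap_le, Scheme.IdealSheafData.map_bot,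
    ker_incl, ker_incl, ← pow_add]
  exact pow_le_pow_right_of_le_one' le_top (by omega)

theorem range_incl (n : ℕ) :
    Set.range (incl (maximalIdeal R) X.hom n).base = X.hom.base ⁻¹' {closedPoint R} := by
  refine Set.Subset.antisymm ?_ fun x hx => ?_
  · rintro _ ⟨z, rfl⟩
    refine PrimeSpectrum.ext (((maximalIdeal.isMaximal R).eq_of_le (PrimeSpectrum.isPrime _).ne_top ?_).symm)
    have h : X.hom (incl (maximalIdeal R) X.hom n z) ∈ Set.range (CohB1.specQuot (maximalIdeal R) n) :=
      ⟨pullback.snd X.hom (CohB1.specQuot (maximalIdeal R) n) z, by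
        rw [← Scheme.Hom.comp_apply, ← pullback.condition]; rfl⟩
    obtain ⟨w, hw⟩ := h
    have hle : maximalIdeal R ^ (n + 1) ≤
        ((CohB1.specQuot (maximalIdeal R) n) w : PrimeSpectrum R).asIdeal := fun r hr => by
      show Ideal.Quotient.mk (maximalIdeal R ^ (n + 1)) r ∈ (w : PrimeSpectrum (R ⧸ maximalIdeal R ^ (n + 1))).asIdeal
      rw [Ideal.Quotient.eq_zero_iff_mem.2 hr]; exact zero_mem _
    have h := (Ideal.IsPrime.pow_le_iff n.succ_ne_zero).1 hle
    rw [hw] at h
    exact h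
  · exact PicAlgzLib.mem_range_incl (maximalIdeal R) X.hom n x (by rw [show X.hom x = closedPoint R from hx]; rfl)

/-- The closed fibre and the zeroth thickening factor through each other. -/
theorem exists_compare :
    (∃ a : ((thickOf (maximalIdeal R) X.hom).X 0) ⟶
        pullback X.hom (Spec.map (CommRingCat.ofHom (algebraMap R (ResidueField R)))),
      a ≫ pullback.fst X.hom (Spec.map (CommRingCat.ofHom (algebraMap R (ResidueField R)))) =
        incl (maximalIdeal R) X.hom 0) ∧
    (∃ b : pullback X.hom (Spec.map (CommRingCat.ofHom (algebraMap R (ResidueField R)))) ⟶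
        ((thickOf (maximalIdeal R) X.hom).X 0),
      b ≫ incl (maximalIdeal R) X.hom 0 =
        pullback.fst X.hom (Spec.map (CommRingCat.ofHom (algebraMap R (ResidueField R))))) := by
  haveI hres : IsClosedImmersion (Spec.map (CommRingCat.ofHom (algebraMap R (ResidueField R)))) :=
    IsClosedImmersion.spec_of_surjective _ residue_surjective
  haveI := isClosedImmersion_incl (X := X) 0
  have hker : (pullback.fst X.hom (Spec.map (CommRingCat.ofHom (algebraMap R (ResidueField R))))).ker =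
      (incl (maximalIdeal R) X.hom 0).ker := by
    rw [← VertChiLib.comap_ker, VertChiLib.ker_specMap, ker_incl, pow_one,
      show algebraMap R (ResidueField R) = residue R from rfl, IsLocalRing.ker_residue]
  exact ⟨⟨IsClosedImmersion.lift _ _ hker.le, IsClosedImmersion.lift_fac _ _ _⟩,
    ⟨IsClosedImmersion.lift _ _ hker.ge, IsClosedImmersion.lift_fac _ _ _⟩⟩

variable [IsAdicComplete (maximalIdeal R) R] [PicGrp.Law X.left]
  [PicGrp.Law (pullback X.hom (Spec.map (CommRingCat.ofHom (algebraMap R (ResidueField R)))))]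

/-- A class trivial on the closed fibre has a root trivial on the closed fibre. -/
theorem exists_root
    (hrel : ∀ s : Spec (CommRingCat.of R),
      topologicalKrullDim ↥(pullback X.hom ((Spec (CommRingCat.of R)).fromSpecResidueField s)) ≤ 1)
    (q : ℕ) (hu : IsUnit (q : R)) (c : PicLoc.PicSet X.left)
    (hc : PicGrp.pullHom _ (VertChiLib.pullMul
      (pullback.fst X.hom (Spec.map (CommRingCat.ofHom (algebraMap R (ResidueField R)))))) c = 1) :
    ∃ d : PicLoc.PicSet X.left, PicGrp.pullHom _ (VertChiLib.pullMul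
      (pullback.fst X.hom (Spec.map (CommRingCat.ofHom (algebraMap R (ResidueField R)))))) d = 1 ∧ d ^ q = c := by
  classical
  haveI : HenselianLocalRing R :=
    { is_henselian := fun f hf a₀ h₁ h₂ =>
        (inferInstance : HenselianRing R (maximalIdeal R)).is_henselian f hf a₀ h₁ (h₂.map _) }
  obtain ⟨⟨a, ha⟩, ⟨b, hb⟩⟩ := exists_compare (X := X)
  let T := thickOf (maximalIdeal R) X.hom
  let φ := incl (maximalIdeal R) X.hom
  haveI hcl : ∀ n, IsClosedImmersion (φ n) := isClosedImmersion_incl (X := X)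
  letI law : ∀ n, PicGrp.Law (T.X n) := fun n => VertChiLib.picLaw _
  haveI hcli : ∀ n, IsClosedImmersion (T.i n) := fun n => by
    haveI : IsClosedImmersion (T.i n ≫ φ (n + 1)) := by
      rw [show T.i n ≫ φ (n + 1) = φ n from PicAlgzLib.i_incl _ X.hom n]; exact hcl n
    exact IsClosedImmersion.of_comp (T.i n) (φ (n + 1))
  have hti : ∀ n (e : PicLoc.PicSet X.left), PicGrp.pullHom (T.i n) (VertChiLib.pullMul _)
      (PicGrp.pullHom (φ (n + 1)) (VertChiLib.pullMul _) e) = PicGrp.pullHom (φ n) (VertChiLib.pullMul _) e :=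
    fun n e => (pullHom_comp _ _ _).trans (pullHom_congr (PicAlgzLib.i_incl _ X.hom n) e)
  have hc0 : PicGrp.pullHom (φ 0) (VertChiLib.pullMul _) c = 1 := by
    rw [← pullHom_congr ha, ← pullHom_comp, hc, map_one]
  have hex : ∀ n (x : PicLoc.PicSet (T.X n)), x ^ q = PicGrp.pullHom (φ n) (VertChiLib.pullMul _) c →
      ∃ y : PicLoc.PicSet (T.X (n + 1)), y ^ q = PicGrp.pullHom (φ (n + 1)) (VertChiLib.pullMul _) c ∧
        PicGrp.pullHom (T.i n) (VertChiLib.pullMul _) y = x := by
    intro n x hx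
    obtain ⟨L, hL, rfl⟩ := PicGrp.exists_eq_cls x
    obtain ⟨d, hd, hdc⟩ := Groth.Agent.S3501.result R X.left X.hom hrel (T.X n) (φ n) (range_incl n)
      (PicF.cl L) ⟨L, rfl, hL⟩
    set E := PicGrp.pullHom (φ (n + 1)) (VertChiLib.pullMul _) (⟨d, hd⟩ : PicLoc.PicSet X.left) with hE
    have hEn : PicGrp.pullHom (T.i n) (VertChiLib.pullMul _) E = PicGrp.cls L hL := by
      rw [hE, hti]; exact Subtype.ext hdc
    have hu' : IsUnit (q : Γ(T.X (n + 1), ⊤)) := by
      have := hu.map (VertIntLib.gρ (φ (n + 1) ≫ X.hom))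
      rwa [map_natCast] at this
    obtain ⟨s, hs1, hs2⟩ := exists_root_ker (T.i n) (sq_zero n) q hu'
      (PicGrp.pullHom (φ (n + 1)) (VertChiLib.pullMul _) c / E ^ q)
      (by rw [map_div, map_pow, hEn, hti, hx, div_self'])
    refine ⟨E * s, ?_, by rw [map_mul, hEn, hs1, mul_one]⟩
    rw [mul_pow, hs2, mul_div_cancel]
  choose step hstep1 hstep2 using hex
  let D : ∀ n, {x : PicLoc.PicSet (T.X n) // x ^ q = PicGrp.pullHom (φ n) (VertChiLib.pullMul _) c} := fun n =>
    Nat.rec (motive := fun n => {x : PicLoc.PicSet (T.X n) // x ^ q = PicGrp.pullHom (φ n) (VertChiLib.pullMul _) c})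
      ⟨1, by rw [one_pow, hc0]⟩ (fun n x => ⟨step n x.1 x.2, hstep1 n x.1 x.2⟩) n
  choose L hL hLD using fun n => PicGrp.exists_eq_cls (D n).1
  have hψ : ∀ n, Nonempty ((Scheme.Modules.pullback (T.i n)).obj (L (n + 1)) ≅ L n) := fun n => by
    have h : PicGrp.pullHom (T.i n) (VertChiLib.pullMul _) (D (n + 1)).1 = (D n).1 := hstep2 n (D n).1 (D n).2
    rw [hLD, hLD] at h
    exact (PicGrp.cl_eq_cl_iff _ _).1 (congrArg Subtype.val h)
  letI : X.left.Over (Spec (CommRingCat.of R)) := ⟨X.hom⟩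
  haveI : IsProper (X.left ↘ Spec (CommRingCat.of R)) := ‹IsProper X.hom›
  have hG := PicAlgzLib.isCohFormal_sys (maximalIdeal R) X.hom L (fun n => (hψ n).some) hL
  obtain ⟨M, hM, ⟨iso⟩⟩ := FormalCohLib.exists_algebraisation_proper (maximalIdeal R) X.left hG
  haveI := hM.1
  have he := fun n => PicAlgzLib.nonempty_pullback_iso (maximalIdeal R) X.hom L (fun n => (hψ n).some) iso n
  have hMi := PicAlgzLib.isInvertible_of_thickenings X.hom hM L hL he
  have hMn : ∀ n, PicGrp.pullHom (φ n) (VertChiLib.pullMul _) (PicGrp.cls M hMi) = (D n).1 := fun n => by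
    rw [hLD]; exact Subtype.ext ((PicGrp.cl_eq_cl_iff _ _).2 (he n))
  refine ⟨PicGrp.cls M hMi, ?_, ?_⟩
  · rw [← pullHom_congr hb, ← pullHom_comp, hMn]
    exact map_one _
  · refine div_eq_one.1 ?_
    obtain ⟨Q, hQ, hQe⟩ := PicGrp.exists_eq_cls (PicGrp.cls M hMi ^ q / c)
    rw [hQe, PicGrp.cls_eq_one_iff]
    refine ThickTrivLib.trivial_of_thickenings X.hom hQ fun n => ?_
    have h : PicGrp.pullHom (φ n) (VertChiLib.pullMul _) (PicGrp.cls Q hQ) = 1 := by
      rw [← hQe, map_div, map_pow, hMn, (D n).2, div_self']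
    obtain ⟨hi⟩ := (PicGrp.cl_eq_cl_iff _ _).1 ((congrArg Subtype.val h).trans PicGrp.one_val)
    exact ⟨hi⟩

end HorizLib
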