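import Groth.Agent.CompRootLib.Main
import Groth.Agent.HorizLib.Thick
import Groth.Agent.HorizLib.FibDim

/-!
# Roots of classes of degree zero on every component of the closed fibre
-/

set_option autoImplicit false
set_option backward.isDefEq.respectTransparency false
set_option linter.style.haveILetI false
set_option maxHeartbeats 2000000
universe u

open AlgebraicGeometry CategoryTheory CategoryTheory.Limits TopologicalSpace IsLocalRing
open KFlatLib (pb)

noncomputable section

namespace HorizLib

variable {R : Type u} [CommRing R] [IsDomain R] [IsDiscreteValuationRing R]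
  {X : Over (Spec (CommRingCat.of R))} [IsIntegral X.left] [Flat X.hom] [IsProper X.hom]
  (hreg : ∀ x : X.left, IsRegularLocalRing (X.left.presheaf.stalk x))
  {n : ℕ} {Γ : Fin n → ArSurf.VertComp R X} (hΓ : Models.IsComponentList R X Γ)

include hreg hΓ in
/-- Degree zero on every component: a root on the reduced closed fibre. -/
theorem exists_root_red (hk : IsAlgClosed (ResidueField R)) [PicGrp.Law (Models.redFibreIdeal R X).subscheme]
    {L : X.left.Modules} (hL : PicF.IsInvertible L) (hdeg : ∀ j, ArSurf.inter R X L (Γ j) = 0)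
    (q : ℕ) (hq : (q : ResidueField R) ≠ 0) :
    ∃ r : PicLoc.PicSet (Models.redFibreIdeal R X).subscheme,
      r ^ q = PicGrp.cls _ (AmpleDevLib.isInvertible_pb (Models.redFibreIdeal R X).subschemeι hL) := by
  classical
  haveI := hk
  let I₀ := Models.redFibreIdeal R X
  have hI₀ : I₀ = Models.redFibreIdeal R X := rfl
  haveI : IsClosedImmersion (Spec.map (CommRingCat.ofHom (residue R))) :=
    IsClosedImmersion.spec_of_surjective _ residue_surjective
  haveI : AlgebraicGeometry.IsReduced I₀.subscheme := DevissLib.isReduced_vanishingIdeal' _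
  have hle : Models.specialFibreIdeal R X ≤ I₀ := by
    rw [hI₀, Models.redFibreIdeal, ← Scheme.IdealSheafData.le_support_iff_le_vanishingIdeal]
    exact fun x hx => (VertIntLib.mem_support_fibre_iff x).2 hx
  have hker : (Spec.map (CommRingCat.ofHom (residue R))).ker ≤ (I₀.subschemeι ≫ X.hom).ker := by
    rw [Scheme.Hom.ker_comp, Scheme.IdealSheafData.le_map_iff_comap_le, Scheme.IdealSheafData.ker_subschemeι,
      VertChiLib.ker_specMap, IsLocalRing.ker_residue]
    exact hle
  letI : I₀.subscheme.Over (Spec (CommRingCat.of (ResidueField R))) := ⟨IsClosedImmersion.lift _ _ hker⟩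
  have hp : (I₀.subscheme ↘ Spec (CommRingCat.of (ResidueField R))) ≫ Spec.map (CommRingCat.ofHom (residue R)) =
      I₀.subschemeι ≫ X.hom := IsClosedImmersion.lift_fac _ _ hker
  haveI : IsProper (I₀.subscheme ↘ Spec (CommRingCat.of (ResidueField R))) := by
    haveI : IsProper ((I₀.subscheme ↘ Spec (CommRingCat.of (ResidueField R))) ≫
        Spec.map (CommRingCat.ofHom (residue R))) := by rw [hp]; infer_instance
    exact IsProper.of_comp _ (Spec.map (CommRingCat.ofHom (residue R)))
  haveI : ∀ i, IsProper ((Γ i).curve.left ↘ Spec (CommRingCat.of (ResidueField R))) :=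
    fun i => VertIntLib.isProper_curve (Γ i)
  have hrange : Set.range I₀.subschemeι = {x : X.left | X.hom x = closedPoint R} := by
    rw [I₀.range_subschemeι, hI₀, Models.redFibreIdeal, Scheme.IdealSheafData.coe_support_vanishingIdeal]
    rfl
  have hsub : ∀ i, I₀.subschemeι.ker ≤ (Γ i).ι.ker := fun i => by
    rw [Scheme.IdealSheafData.ker_subschemeι, hI₀, Models.redFibreIdeal,
      AlgSpRegLib.ker_eq_vanishingIdeal (Γ i).ι]
    refine Scheme.IdealSheafData.vanishingIdeal_antimono ?_
    show closure (Set.range (Γ i).ι) ⊆ _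
    rw [(Γ i).ι.isClosedEmbedding.isClosed_range.closure_eq]
    rintro _ ⟨z, rfl⟩
    exact VertIntLib.over_closedPoint (Γ i) z
  let c := fun i => IsClosedImmersion.lift I₀.subschemeι (Γ i).ι (hsub i)
  have hcι : ∀ i, c i ≫ I₀.subschemeι = (Γ i).ι := fun i => IsClosedImmersion.lift_fac _ _ _
  haveI : ∀ i, IsClosedImmersion (c i) := fun i => by
    haveI : IsClosedImmersion (c i ≫ I₀.subschemeι) := by rw [hcι]; exact (Γ i).isClosedImmersion
    exact IsClosedImmersion.of_comp (c i) I₀.subschemeι
  have hc : ∀ i, c i ≫ (I₀.subscheme ↘ Spec (CommRingCat.of (ResidueField R))) =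
      (Γ i).curve.left ↘ Spec (CommRingCat.of (ResidueField R)) := fun i => by
    rw [← cancel_mono (Spec.map (CommRingCat.ofHom (residue R))), Category.assoc, hp, ← Category.assoc, hcι,
      VertIntLib.over_hom]
  have hcov : ∀ y : I₀.subscheme, ∃ i, y ∈ Set.range (c i) := fun y => by
    obtain ⟨i, z, hz⟩ := VertIntLib.cover_of_list hΓ (I₀.subschemeι y) (hrange.le ⟨y, rfl⟩)
    exact ⟨i, z, I₀.subschemeι.isEmbedding.injective (by rw [← Scheme.Hom.comp_apply, hcι]; exact hz)⟩
  have hdimY : topologicalKrullDim I₀.subscheme ≤ 1 := by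
    by_contra h
    obtain ⟨a, b, c', hab, hbc, nab, nbc⟩ := VertChiLib.exists_three (A := ↥I₀.subscheme) h
    obtain ⟨i, hi⟩ := hcov a
    have hcl := (c i).isClosedEmbedding.isClosed_range
    obtain ⟨b', rfl⟩ := hab.mem_closed hcl hi
    obtain ⟨c'', rfl⟩ := (hab.trans hbc).mem_closed hcl hi
    obtain ⟨a', rfl⟩ := hi
    have he := (c i).isEmbedding.isInducing
    exact FinPicLib.not_three (Γ i).dim_eq.le (he.specializes_iff.1 hab) (he.specializes_iff.1 hbc)
      (fun e => nab (congrArg _ e)) (fun e => nbc (congrArg _ e))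
  have hgen : ∀ i j, c i (genericPoint (Γ i).curve.left) ∈ Set.range (c j) → i = j := fun i j hij => by
    by_contra hne
    refine VertIntLib.genPt_not_mem_of_isFibGen (Γ i) (VertIntLib.isFibGen_of_list hΓ i) (Γ j)
      (fun h => hne (hΓ.1 h)) ?_
    show Models.genPtOf R X (Γ i) ∈ ((Γ j).ι.ker.support : Set X.left)
    rw [Scheme.Hom.support_ker, (Γ j).ι.isClosedEmbedding.isClosed_range.closure_eq]
    obtain ⟨z, hz⟩ := hij
    refine ⟨z, ?_⟩
    rw [← hcι j, Scheme.Hom.comp_apply, hz, ← Scheme.Hom.comp_apply, hcι i]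
    rfl
  refine CompRootLib.exists_root_curve c hc hdimY (fun i => (Γ i).dim_eq) hcov hgen
    (AmpleDevLib.isInvertible_pb I₀.subschemeι hL) (fun i => ?_) q hq
  refine (CurvLib.deg_congr (k := ResidueField R) ?_ 1).trans ((VertIntLib.inter_eq_deg (Γ i) L).symm.trans (hdeg i))
  exact (Scheme.Modules.pullbackComp (c i) I₀.subschemeι).app L ≪≫
    (Scheme.Modules.pullbackCongr (hcι i)).app L

variable [IsAdicComplete (maximalIdeal R) R] [PicGrp.Law X.left]

include hreg hΓ in
/-- Degree zero on every component: a root. -/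
theorem exists_root_deg (hk : IsAlgClosed (ResidueField R))
    (hrel : ∀ s : Spec (CommRingCat.of R),
      topologicalKrullDim ↥(pullback X.hom ((Spec (CommRingCat.of R)).fromSpecResidueField s)) ≤ 1)
    (q : ℕ) (hq : (q : ResidueField R) ≠ 0) {L : X.left.Modules} (hL : PicF.IsInvertible L)
    (hdeg : ∀ j, ArSurf.inter R X L (Γ j) = 0) :
    ∃ D : PicLoc.PicSet X.left, D ^ q = PicGrp.cls L hL := by
  classical
  haveI : HenselianLocalRing R :=
    { is_henselian := fun f hf a₀ h₁ h₂ =>
        (inferInstance : HenselianRing R (maximalIdeal R)).is_henselian f hf a₀ h₁ (h₂.map _) }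
  have hqR : IsUnit (q : R) := (IsLocalRing.notMem_maximalIdeal (R := R)).1 fun hm =>
    hq (by rw [← map_natCast (IsLocalRing.residue R)]; exact (IsLocalRing.residue_eq_zero_iff _).2 hm)
  let I₀ := Models.redFibreIdeal R X
  have hI₀ : I₀ = Models.redFibreIdeal R X := rfl
  have hsupp : ∀ m : ℕ, Set.range (I₀ ^ (m + 1)).subschemeι = X.hom ⁻¹' {closedPoint R} := fun m => by
    rw [(I₀ ^ (m + 1)).range_subschemeι, Scheme.IdealSheafData.support_pow_succ, hI₀, Models.redFibreIdeal,
      Scheme.IdealSheafData.coe_support_vanishingIdeal]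
    rfl
  let ι := fun m : ℕ => (I₀ ^ (m + 1)).subschemeι
  letI : ∀ m : ℕ, PicGrp.Law (I₀ ^ (m + 1)).subscheme := fun m => VertChiLib.picLaw _
  letI : PicGrp.Law I₀.subscheme := VertChiLib.picLaw _
  let φ := fun m => PicGrp.pullHom (ι m) (VertChiLib.pullMul (ι m))
  set c := PicGrp.cls L hL
  have hlift : ∀ m (x : PicLoc.PicSet (I₀ ^ (m + 1)).subscheme), ∃ E, φ m E = x := fun m x => by
    obtain ⟨M, hM, rfl⟩ := PicGrp.exists_eq_cls x
    obtain ⟨d, hd, hdc⟩ := Groth.Agent.S3501.result R X.left X.hom hrel _ (ι m) (hsupp m) (PicF.cl M) ⟨M, rfl, hM⟩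
    exact ⟨⟨d, hd⟩, Subtype.ext hdc⟩
  have hall : ∀ m, ∃ E, φ m (E ^ q) = φ m c := by
    intro m
    induction m with
    | zero =>
      obtain ⟨r, hr⟩ := exists_root_red hreg hΓ hk hL hdeg q hq
      have h0 : I₀ ^ (0 + 1) = I₀ := pow_one I₀
      let a : (I₀ ^ (0 + 1)).subscheme ⟶ I₀.subscheme := Scheme.IdealSheafData.inclusion h0.ge
      have ha : a ≫ I₀.subschemeι = ι 0 := Scheme.IdealSheafData.inclusion_subschemeι h0.ge
      obtain ⟨E, hE⟩ := hlift 0 (PicGrp.pullHom a (VertChiLib.pullMul a) r)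
      refine ⟨E, ?_⟩
      rw [map_pow, hE, ← map_pow, hr]
      refine Eq.trans ?_ (pullHom_congr ha c)
      rw [← pullHom_comp]
      congr 1
    | succ m ih =>
      obtain ⟨E, hE⟩ := ih
      have hQ : I₀ ^ (m + 1 + 1) ≤ I₀ ^ (m + 1) := pow_le_pow_right_of_le_one' le_top (Nat.le_succ _)
      let i : (I₀ ^ (m + 1)).subscheme ⟶ (I₀ ^ (m + 1 + 1)).subscheme := Scheme.IdealSheafData.inclusion hQ
      have hi : i ≫ ι (m + 1) = ι m := Scheme.IdealSheafData.inclusion_subschemeι hQ
      have hI : i.ker * i.ker = ⊥ := by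
        have hle : i.ker ≤ (I₀ ^ (m + 1)).comap (ι (m + 1)) := by
          refine le_of_le_of_eq ?_ (congrArg (fun J => Scheme.IdealSheafData.comap J (ι (m + 1)))
            (Scheme.IdealSheafData.ker_subschemeι (I₀ ^ (m + 1))))
          beta_reduce
          rw [VertChiLib.comap_ker]
          have h : pullback.fst (ι (m + 1)) (ι m) = pullback.snd (ι (m + 1)) (ι m) ≫ i := by
            rw [← cancel_mono (ι (m + 1)), Category.assoc, hi, pullback.condition]
          rw [h]
          exact Scheme.Hom.le_ker_comp _ _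
        refine le_bot_iff.1 ((mul_le_mul' hle hle).trans ?_)
        rw [← HilbPts.SC.comap_mul, ← Scheme.IdealSheafData.le_map_iff_comap_le, Scheme.IdealSheafData.map_bot,
          Scheme.IdealSheafData.ker_subschemeι, ← pow_add]
        exact pow_le_pow_right_of_le_one' le_top (by omega)
      have hu : IsUnit (q : Γ((I₀ ^ (m + 1 + 1)).subscheme, ⊤)) := by
        have := hqR.map (VertIntLib.gρ (ι (m + 1) ≫ X.hom))
        rwa [map_natCast] at this
      obtain ⟨s, -, hs⟩ := exists_root_ker i hI q hu (φ (m + 1) (c / E ^ q)) (by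
        rw [pullHom_comp, pullHom_congr hi, map_div]
        exact div_eq_one.2 hE.symm)
      obtain ⟨S, hS⟩ := hlift (m + 1) s
      refine ⟨E * S, ?_⟩
      rw [mul_pow, map_mul, map_pow (φ (m + 1)) S, hS, hs, map_div, mul_div_cancel]
  haveI : IsClosedImmersion (Spec.map (CommRingCat.ofHom (residue R))) :=
    IsClosedImmersion.spec_of_surjective _ residue_surjective
  let i := pullback.fst X.hom (Spec.map (CommRingCat.ofHom (algebraMap R (ResidueField R))))
  letI : PicGrp.Law (pullback X.hom (Spec.map (CommRingCat.ofHom (algebraMap R (ResidueField R))))) :=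
    VertChiLib.picLaw _
  let B := Finset.univ.sup fun j => Models.mult R X (Γ j)
  have hle : (ι B).ker ≤ i.ker := by
    rw [Scheme.IdealSheafData.ker_subschemeι]
    have h1 : i.ker = Models.specialFibreIdeal R X := by
      show (pullback.fst X.hom (Spec.map (CommRingCat.ofHom (residue R)))).ker = _
      rw [← VertChiLib.comap_ker, VertChiLib.ker_specMap, IsLocalRing.ker_residue]
      rfl
    rw [h1, VertIntLib.specialFibreIdeal_eq hreg hΓ, hI₀, ← VertChiLib.J_one_eq hreg hΓ, VertChiLib.J,
      ← Finset.prod_pow]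
    refine Finset.prod_le_prod' fun j _ => ?_
    rw [← pow_mul]
    refine pow_le_pow_right_of_le_one' le_top ?_
    simp only [Pi.one_apply, one_mul]
    exact (Finset.le_sup (f := fun j => Models.mult R X (Γ j)) (Finset.mem_univ j)).trans (Nat.le_succ B)
  obtain ⟨E, hE⟩ := hall B
  let b := IsClosedImmersion.lift (ι B) i hle
  have hb : b ≫ ι B = i := IsClosedImmersion.lift_fac _ _ _
  obtain ⟨d, -, hd⟩ := exists_root (X := X) hrel q hqR (c / E ^ q) (by
    show PicGrp.pullHom i (VertChiLib.pullMul i) _ = 1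
    rw [← pullHom_congr hb, ← pullHom_comp, show PicGrp.pullHom (ι B) (VertChiLib.pullMul (ι B)) (c / E ^ q) = 1 by
      rw [map_div]; exact div_eq_one.2 hE.symm, map_one])
  exact ⟨E * d, by rw [mul_pow, hd, mul_div_cancel]⟩

end HorizLib
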