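import Groth.Agent.HorizLib.Trans
import Groth.Agent.VertIntLib.Stmts
import Groth.Agent.S7887
import Groth.Prelude.Def_PicGrp

/-!
# The Picard group of a model and of its generic fibre
-/

set_option autoImplicit false
set_option backward.isDefEq.respectTransparency false
set_option linter.style.haveILetI false
set_option maxHeartbeats 800000
universe u

open AlgebraicGeometry CategoryTheory CategoryTheory.Limits TopologicalSpace IsLocalRing
open CubeConsLib (cl IsoCls cl_tensor cl_eq_iff cl_eq_one_iff pull)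

noncomputable section

namespace HorizLib

/-- Invertible modules extend from an open subscheme of a regular scheme. -/
theorem exists_extension {C W : Scheme.{u}} [IsNoetherian W] [ConnectedSpace W]
    (hreg : ∀ x : W, IsRegularLocalRing (W.presheaf.stalk x)) (g : C ⟶ W) [IsOpenImmersion g]
    {N : C.Modules} (hN : PicF.IsInvertible N) :
    ∃ L : W.Modules, PicF.IsInvertible L ∧ Nonempty ((Scheme.Modules.pullback g).obj L ≅ N) := by
  have hinv : PicF.IsInvertible ((Scheme.Modules.pullback g.isoOpensRange.inv).obj N) :=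
    AmpleDevLib.isInvertible_pb g.isoOpensRange.inv hN
  obtain ⟨L, hL, ⟨e⟩⟩ := Groth.Agent.S7887.result W hreg g.opensRange _ hinv
  refine ⟨L, hL, ⟨?_⟩⟩
  exact (Scheme.Modules.pullbackCongr g.isoOpensRange_hom_ι.symm).app L ≪≫
    ((Scheme.Modules.pullbackComp g.isoOpensRange.hom g.opensRange.ι).app L).symm ≪≫
    (Scheme.Modules.pullback g.isoOpensRange.hom).mapIso
      (((Scheme.Modules.restrictFunctorIsoPullback g.opensRange.ι).app L).symm ≪≫ e) ≪≫
    (Scheme.Modules.pullbackComp g.isoOpensRange.hom g.isoOpensRange.inv).app N ≪≫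
    (Scheme.Modules.pullbackCongr g.isoOpensRange.hom_inv_id).app N ≪≫
    (Scheme.Modules.pullbackId C).app N

variable {R : Type u} [CommRing R] [IsDomain R] [IsDiscreteValuationRing R]
  {X : Over (Spec (CommRingCat.of R))}

/-- The matrix of intersection numbers of a family. -/
def interMat {n : ℕ} (Γ : Fin n → ArSurf.VertComp R X) (L : Fin n → X.left.Modules) :
    Matrix (Fin n) (Fin n) ℤ :=
  Matrix.of fun j i => ArSurf.inter R X (L i) (Γ j)

theorem mem_range_interMat {n : ℕ} {Γ : Fin n → ArSurf.VertComp R X} {L : Fin n → X.left.Modules}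
    (d : Fin n → ℤ) :
    d ∈ LinearMap.range (Matrix.mulVecLin (interMat Γ L)) ↔
      ∃ v : Fin n → ℤ, ∀ i, d i = ∑ j, ArSurf.inter R X (L j) (Γ i) * v j := by
  rw [LinearMap.mem_range]
  exact exists_congr fun v => ⟨fun h i => (congrFun h i).symm, fun h => funext fun i => (h i).symm⟩

variable [IsIntegral X.left] [Flat X.hom] [IsProper X.hom]
  (hreg : ∀ x : X.left, IsRegularLocalRing (X.left.presheaf.stalk x))
  {n : ℕ} {Γ : Fin n → ArSurf.VertComp R X} (hΓ : Models.IsComponentList R X Γ)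
  {LD : Fin n → X.left.Modules} (hLD : ∀ i, ClSub.IsInverseOf (LD i) (ClSub.idealMod (Γ i).ι.ker))
  {C : Scheme.{u}} [IsIntegral C] {f : C ⟶ Spec (CommRingCat.of (FractionRing R))} {g : C ⟶ X.left}
  (hg : IsPullback g f X.hom (Spec.map (CommRingCat.ofHom (algebraMap R (FractionRing R)))))
  [PicGrp.Law X.left] [PicGrp.Law C] (hgm : PicGrp.PullMul g)

/-- A degree vector depends on the class only. -/
theorem inter_eq_of_cls_eq {L M : X.left.Modules} (hL : PicF.IsInvertible L) (hM : PicF.IsInvertible M)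
    (h : PicGrp.cls L hL = PicGrp.cls M hM) (Γ₀ : ArSurf.VertComp R X) :
    ArSurf.inter R X L Γ₀ = ArSurf.inter R X M Γ₀ :=
  VertIntLib.inter_congr (cl_eq_iff.2 ((PicGrp.cls_eq_cls_iff hL hM).1 h)) Γ₀

/-- The degree vector modulo the image of the intersection matrix. -/
def degHom : PicLoc.PicSet X.left →* Multiplicative ((Fin n → ℤ) ⧸ LinearMap.range (Matrix.mulVecLin (interMat Γ LD))) where
  toFun c := Multiplicative.ofAdd (Submodule.Quotient.mk
    fun j => ArSurf.inter R X (PicGrp.exists_eq_cls c).choose (Γ j))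
  map_one' := by
    rw [← ofAdd_zero]
    congr 1
    rw [Submodule.Quotient.mk_eq_zero]
    refine (mem_range_interMat _).2 ⟨0, fun i => ?_⟩
    obtain ⟨hL, hc⟩ := (PicGrp.exists_eq_cls (1 : PicLoc.PicSet X.left)).choose_spec
    rw [inter_eq_of_cls_eq hL (PicLoc.isInvertible_structureModule X.left)
      (hc.symm.trans PicGrp.cls_structureModule_eq_one.symm) (Γ i), VertIntLib.inter_structure]
    simp
  map_mul' a b := by
    obtain ⟨hA, hca⟩ := (PicGrp.exists_eq_cls a).choose_spec
    obtain ⟨hB, hcb⟩ := (PicGrp.exists_eq_cls b).choose_spec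
    obtain ⟨hAB, hcab⟩ := (PicGrp.exists_eq_cls (a * b)).choose_spec
    rw [← ofAdd_add, ← Submodule.Quotient.mk_add]
    congr 2
    funext j
    rw [Pi.add_apply, ← VertIntLib.inter_tensor hA hB]
    refine inter_eq_of_cls_eq hAB (HilbPolyLib.isInvertible_tensor hA hB) ?_ _
    apply Subtype.ext
    rw [← hcab, PicGrp.cls_val, ← PicGrp.cls_mul_cls_val hA hB, ← hca, ← hcb]

theorem degHom_cls {L : X.left.Modules} (hL : PicF.IsInvertible L) :
    degHom (Γ := Γ) (LD := LD) (PicGrp.cls L hL) =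
      Multiplicative.ofAdd (Submodule.Quotient.mk fun j => ArSurf.inter R X L (Γ j)) := by
  obtain ⟨hL', hc⟩ := (PicGrp.exists_eq_cls (PicGrp.cls L hL)).choose_spec
  show Multiplicative.ofAdd _ = _
  congr 2
  funext j
  exact inter_eq_of_cls_eq hL' hL hc.symm _

omit [IsIntegral X.left] [Flat X.hom] [IsProper X.hom] [IsIntegral C] in
theorem pullHom_cls {L : X.left.Modules} (hL : PicF.IsInvertible L) :
    PicGrp.pullHom g hgm (PicGrp.cls L hL) =
      PicGrp.cls ((Scheme.Modules.pullback g).obj L) (AmpleDevLib.isInvertible_pb g hL) :=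
  Subtype.ext rfl

include hg in
omit [IsIntegral C] in
theorem isOpenImmersion_gen : IsOpenImmersion g :=
  MorphismProperty.of_isPullback hg.flip (Groth.Agent.S3250.isOpenImmersion_genPt R)

include hreg hg in
theorem surjective_pullHom : Function.Surjective (PicGrp.pullHom g hgm) := fun c => by
  obtain ⟨N, hN, rfl⟩ := PicGrp.exists_eq_cls c
  haveI := isOpenImmersion_gen hg
  haveI : IsLocallyNoetherian X.left := LocallyOfFiniteType.isLocallyNoetherian X.hom
  haveI : CompactSpace X.left := QuasiCompact.compactSpace_of_compactSpace X.hom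
  haveI : IsNoetherian X.left := {}
  obtain ⟨L, hL, hiso⟩ := exists_extension hreg g hN
  exact ⟨PicGrp.cls L hL, (pullHom_cls hgm hL).trans ((PicGrp.cls_eq_cls_iff _ hN).2 hiso)⟩

include hreg hΓ hLD hg in
theorem ker_le : (PicGrp.pullHom g hgm).ker ≤ (degHom (Γ := Γ) (LD := LD)).ker := fun c hc => by
  obtain ⟨L, hL, rfl⟩ := PicGrp.exists_eq_cls c
  rw [MonoidHom.mem_ker, pullHom_cls, PicGrp.cls_eq_one_iff] at hc
  rw [MonoidHom.mem_ker, degHom_cls, ← ofAdd_zero]
  congr 1
  rw [Submodule.Quotient.mk_eq_zero]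
  obtain ⟨a, b, hab⟩ := VertIntLib.exists_vt hLD hreg hΓ hg hL hc
  exact (mem_range_interMat _).2 ⟨fun j => (a j : ℤ) - (b j : ℤ), fun i =>
    (VertIntLib.inter_of_vt hLD hreg hΓ hL hab.symm (Γ i)).trans (Finset.sum_congr rfl fun j _ => mul_comm _ _)⟩

include hreg hΓ hLD hg in
/-- The exact sequence `0 → Pic⁰ X → Pic C → G → 0`. -/
theorem exists_ψ [HenselianLocalRing R] (hk : IsAlgClosed (ResidueField R)) :
    ∃ ψ : Additive (PicLoc.PicSet C) →+ ((Fin n → ℤ) ⧸ LinearMap.range (Matrix.mulVecLin (interMat Γ LD))),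
      (∀ (L : X.left.Modules) (hL : PicF.IsInvertible L),
          ψ (Additive.ofMul (PicGrp.pullHom g hgm (PicGrp.cls L hL))) =
            Submodule.Quotient.mk (fun j => ArSurf.inter R X L (Γ j))) ∧
        Function.Surjective ψ ∧
        (∀ c : PicLoc.PicSet C, ψ (Additive.ofMul c) = 0 →
          ∃ (L : X.left.Modules) (hL : PicF.IsInvertible L),
            (∀ j, ArSurf.inter R X L (Γ j) = 0) ∧ PicGrp.pullHom g hgm (PicGrp.cls L hL) = c) := by
  have hsurj := surjective_pullHom hreg hg hgm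
  let φ : PicLoc.PicSet C →* Multiplicative ((Fin n → ℤ) ⧸ LinearMap.range (Matrix.mulVecLin (interMat Γ LD))) :=
    (PicGrp.pullHom g hgm).liftOfSurjective hsurj ⟨degHom, ker_le hreg hΓ hLD hg hgm⟩
  have hφ : ∀ c, φ (PicGrp.pullHom g hgm c) = degHom c := fun c =>
    MonoidHom.liftOfRightInverse_comp_apply _ _ _ ⟨degHom, ker_le hreg hΓ hLD hg hgm⟩ c
  have hψ : ∀ (L : X.left.Modules) (hL : PicF.IsInvertible L),
      MonoidHom.toAdditiveLeft φ (Additive.ofMul (PicGrp.pullHom g hgm (PicGrp.cls L hL))) =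
        Submodule.Quotient.mk (fun j => ArSurf.inter R X L (Γ j)) := fun L hL => by
    show Multiplicative.toAdd (φ _) = _
    rw [toMul_ofMul, hφ, degHom_cls]
    rfl
  refine ⟨MonoidHom.toAdditiveLeft φ, hψ, fun γ => ?_, fun c hc => ?_⟩
  · obtain ⟨d, rfl⟩ := Submodule.Quotient.mk_surjective _ γ
    classical
    choose M hM hMj using fun i => exists_inter_eq_ite hk hΓ i
    have key : ∀ i, MonoidHom.toAdditiveLeft φ (Additive.ofMul (PicGrp.pullHom g hgm (PicGrp.cls (M i) (hM i)))) =
        Submodule.Quotient.mk (Pi.single i (1 : ℤ)) := fun i => by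
      rw [hψ]
      congr 1
      funext j
      rw [hMj i j, Pi.single_apply]
    refine ⟨∑ i, d i • Additive.ofMul (PicGrp.pullHom g hgm (PicGrp.cls (M i) (hM i))), ?_⟩
    simp only [map_sum, map_zsmul, key]
    simp only [← Submodule.mkQ_apply, ← map_zsmul, ← map_sum]
    congr 1
    funext j
    simp [Finset.sum_apply, Pi.single_apply]
  · obtain ⟨c', rfl⟩ := hsurj c
    obtain ⟨L, hL, rfl⟩ := PicGrp.exists_eq_cls c'
    rw [hψ, Submodule.Quotient.mk_eq_zero, mem_range_interMat] at hc
    obtain ⟨M', hM', hiso, hdeg⟩ := (VertIntLib.s3348 hLD hreg hΓ hg hL ⟨Iso.refl _⟩).1 hc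
    refine ⟨M', hM', hdeg, ?_⟩
    rw [pullHom_cls, pullHom_cls, PicGrp.cls_eq_cls_iff]
    exact hiso

include hreg hΓ hLD hg in
/-- Degree zero and trivial on the generic fibre gives trivial when the multiplicities are coprime. -/
theorem eq_one_of_deg_zero (hH0 : IsIso f.appTop) (hconn : _root_.IsPreconnected (Models.specialFibreSet R X))
    (hgcd : Models.multGcd R X Γ = 1) {L : X.left.Modules} (hL : PicF.IsInvertible L)
    (hdeg : ∀ j, ArSurf.inter R X L (Γ j) = 0) (hone : PicGrp.pullHom g hgm (PicGrp.cls L hL) = 1) :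
    PicGrp.cls L hL = 1 := by
  rw [pullHom_cls, PicGrp.cls_eq_one_iff] at hone
  have hR := VertIntLib.global_functions hH0 hg
  obtain ⟨a, b, hab⟩ := VertIntLib.exists_vt hLD hreg hΓ hg hL hone
  have h := VertIntLib.gcd_vt_eq_one hLD hreg hΓ hR hconn
    (fun i => (VertIntLib.inter_of_vt hLD hreg hΓ hL hab.symm (Γ i)).symm.trans (hdeg i))
  rw [hgcd, Nat.cast_one, zpow_one] at h
  rw [PicGrp.cls_eq_one_iff, ← cl_eq_one_iff, ← hab, h, Units.val_one]

end HorizLib
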