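import Groth.Agent.HorizLib.Point
import Groth.Agent.VertChiLib.Meet
import Groth.Agent.GenusZeroLib.Point
import Groth.Agent.DepthLib.GeomRk
import Groth.Agent.DiagTorLib.Mult

/-!
# A divisor meeting one component once
-/

set_option autoImplicit false
set_option backward.isDefEq.respectTransparency false
set_option linter.style.haveILetI false
universe u

open AlgebraicGeometry CategoryTheory CategoryTheory.Limits TopologicalSpace IsLocalRing

noncomputable section

namespace HorizLib

/-- A subscheme with one point whose stalk is the residue field of the base has length one. -/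
theorem lengthH_eq_one {R : Type u} [CommRing R] [IsDomain R] [IsDiscreteValuationRing R]
    {X : Over (Spec (CommRingCat.of R))} {J : X.left.IdealSheafData} {x : X.left}
    (hJ : (J.support : Set X.left) = {x})
    (hm : ∀ a ∈ maximalIdeal (X.left.presheaf.stalk x), ∀ z : J.subscheme, ∀ h : J.subschemeι z = x,
      (J.subschemeι.stalkMap z).hom (X.left.presheaf.stalkSpecializes (specializes_of_eq h) a) = 0)
    (hsurj : Function.Surjective ((X.left.residue x).hom.comp (Models.stalkHom R X x))) :
    Models.lengthH R X (ClSub.quotMod J) 0 = 1 := by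
  let q : J.subscheme ⟶ Spec (CommRingCat.of R) := J.subschemeι ≫ X.hom
  haveI hsub : Subsingleton ↥J.subscheme := ⟨fun a b => J.subschemeι.isEmbedding.injective (by
    have ha : J.subschemeι a ∈ ({x} : Set X.left) := hJ ▸ J.range_subschemeι ▸ ⟨a, rfl⟩
    have hb : J.subschemeι b ∈ ({x} : Set X.left) := hJ ▸ J.range_subschemeι ▸ ⟨b, rfl⟩
    exact ha.trans hb.symm)⟩
  obtain ⟨z, hz⟩ : x ∈ Set.range J.subschemeι.base := by
    show x ∈ Set.range J.subschemeι
    rw [J.range_subschemeι, hJ]; rfl
  subst hz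
  haveI hne : Nontrivial Γ(J.subscheme, ⊤) := ⟨0, 1, fun h => zero_ne_one (α := J.subscheme.presheaf.stalk z) (by
    have := congrArg (J.subscheme.presheaf.germ ⊤ z trivial).hom h
    rwa [map_zero, map_one] at this)⟩
  have hinj : Function.Injective (J.subscheme.presheaf.germ ⊤ z trivial).hom := fun a b hab => by
    refine TopCat.Presheaf.section_ext J.subscheme.sheaf ⊤ a b fun w hw => ?_
    obtain rfl : w = z := Subsingleton.elim _ _
    exact hab
  have hg : Function.Surjective (VertIntLib.gρ q) := fun s => by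
    obtain ⟨b, hb⟩ := J.subschemeι.stalkMap_surjective z ((J.subscheme.presheaf.germ ⊤ z trivial).hom s)
    obtain ⟨r, hr⟩ := hsurj ((X.left.residue _).hom b)
    refine ⟨r, hinj ?_⟩
    rw [VertIntLib.gρ_comp, ← hb]
    refine (Scheme.Hom.germ_stalkMap_apply J.subschemeι ⊤ z trivial _).symm.trans ?_
    have hmem : Models.stalkHom R X (J.subschemeι z) r - b ∈ maximalIdeal _ := by
      rw [← residue_eq_zero_iff, map_sub, sub_eq_zero]
      exact hr
    have h0 := hm _ hmem z rfl
    rw [TopCat.Presheaf.stalkSpecializes_refl] at h0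
    rw [← sub_eq_zero, ← map_sub]
    exact h0
  letI := VertIntLib.gmod q
  let φ : R →ₗ[R] Γ(J.subscheme, ⊤) :=
    { toFun := VertIntLib.gρ q, map_add' := map_add _, map_smul' := fun r s => map_mul _ r s }
  have hker : maximalIdeal R ≤ LinearMap.ker φ := fun r hr => by
    refine hinj ?_
    show (J.subscheme.presheaf.germ ⊤ z trivial).hom (VertIntLib.gρ q r) = _
    rw [map_zero, VertIntLib.gρ_comp]
    refine (Scheme.Hom.germ_stalkMap_apply J.subschemeι ⊤ z trivial _).symm.trans ?_
    have hmem : Models.stalkHom R X (J.subschemeι z) r ∈ maximalIdeal _ := by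
      haveI : IsLocalRing R := inferInstance
      by_contra hu
      rw [mem_maximalIdeal, mem_nonunits_iff, not_not] at hu
      have hr' : (X.left.residue (J.subschemeι z)).hom (Models.stalkHom R X _ r) ≠ 0 :=
        fun h => (residue_eq_zero_iff _).1 h hu
      have hk : RingHom.ker ((X.left.residue (J.subschemeι z)).hom.comp (Models.stalkHom R X (J.subschemeι z))) =
          maximalIdeal R := eq_maximalIdeal (RingHom.ker_isMaximal_of_surjective _ hsurj)
      exact hr' ((RingHom.mem_ker).1 (hk.ge hr))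
    have h0 := hm _ hmem z rfl
    rwa [TopCat.Presheaf.stalkSpecializes_refl] at h0
  have hker' : maximalIdeal R = LinearMap.ker φ :=
    (maximalIdeal.isMaximal R).eq_of_le (fun h => by
      have h1 : φ 1 = 0 := LinearMap.mem_ker.1 (h ▸ Submodule.mem_top)
      exact one_ne_zero ((map_one (VertIntLib.gρ q)).symm.trans h1)) hker
  haveI : IsSimpleModule R (R ⧸ LinearMap.ker φ) := by
    rw [← hker']; exact isSimpleModule_iff_isCoatom.2 (Ideal.isMaximal_def.1 (maximalIdeal.isMaximal R))
  have h1 : Module.length R Γ(J.subscheme, ⊤) = 1 := by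
    rw [← (φ.quotKerEquivOfSurjective hg).length_eq, Module.length_eq_one_iff]
    infer_instance
  have e := VertIntLib.length_hhQuot (A := R) J
  rw [VertIntLib.glen] at e
  rw [Models.lengthH, e, h1]
  rfl

/-- An empty subscheme has length zero. -/
theorem lengthH_eq_zero {R : Type u} [CommRing R] [IsDomain R] [IsDiscreteValuationRing R]
    {X : Over (Spec (CommRingCat.of R))} {J : X.left.IdealSheafData} (hJ : (J.support : Set X.left) = ∅) :
    Models.lengthH R X (ClSub.quotMod J) 0 = 0 := by
  haveI : IsEmpty ↥J.subscheme := ⟨fun z => by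
    have : J.subschemeι z ∈ (J.support : Set X.left) := J.range_subschemeι ▸ ⟨z, rfl⟩
    rw [hJ] at this
    exact this⟩
  haveI : Subsingleton Γ(J.subscheme, ⊤) := by
    rw [show (⊤ : J.subscheme.Opens) = ⊥ from TopologicalSpace.Opens.ext (Set.ext fun z => isEmptyElim z)]
    exact CommRingCat.subsingleton_of_isTerminal J.subscheme.sheaf.isTerminalOfEmpty
  letI := VertIntLib.gmod (J.subschemeι ≫ X.hom)
  have e := VertIntLib.length_hhQuot (A := R) J
  rw [VertIntLib.glen, Module.length_eq_zero (M := Γ(J.subscheme, ⊤))] at e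
  rw [Models.lengthH, e]
  rfl

/-- Closed points over the closed point are rational over an algebraically closed residue field. -/
theorem surjective_residue {R : Type u} [CommRing R] [IsLocalRing R] (hk : IsAlgClosed (ResidueField R))
    {X : Over (Spec (CommRingCat.of R))} [LocallyOfFiniteType X.hom] (x : X.left)
    (hx : IsClosed ({x} : Set X.left)) (hxp : X.hom x = closedPoint R) :
    Function.Surjective ((X.left.residue x).hom.comp (Models.stalkHom R X x)) := by
  haveI := hk
  obtain ⟨U, hU, hxU, -⟩ := exists_isAffineOpen_mem_and_subset (x := x) (U := (⊤ : X.left.Opens)) trivial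
  letI := (ρ X.hom U).toAlgebra
  haveI : Algebra.FiniteType R Γ(X.left, U) := finiteType_ρ X.hom hU
  let P := (hU.primeIdealOf ⟨x, hxU⟩).asIdeal
  have hP : P.IsMaximal := hU.primeIdealOf_isMaximal_of_isClosed ⟨x, hxU⟩ hx
  haveI := hU.isLocalization_stalk ⟨x, hxU⟩
  letI := Ideal.Quotient.field P
  have hm : ∀ r ∈ maximalIdeal R, algebraMap R (Γ(X.left, U) ⧸ P) r = 0 := fun r hr => by
    refine Ideal.Quotient.eq_zero_iff_mem.2 ?_
    by_contra hn
    refine (not_mem_basicOpen_ρ_iff X.hom x hxU).2 hxp r hr ?_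
    have := (mem_fromSpec_iff hU (ρ X.hom U r) (hU.primeIdealOf ⟨x, hxU⟩)).2 hn
    rwa [hU.fromSpec_primeIdealOf] at this
  let φ : ResidueField R →+* Γ(X.left, U) ⧸ P := Ideal.Quotient.lift (maximalIdeal R) (algebraMap R _) hm
  letI := φ.toAlgebra
  haveI : IsScalarTower R (ResidueField R) (Γ(X.left, U) ⧸ P) := IsScalarTower.of_algebraMap_eq fun r => rfl
  haveI : Algebra.FiniteType (ResidueField R) (Γ(X.left, U) ⧸ P) :=
    Algebra.FiniteType.of_restrictScalars_finiteType R _ _
  haveI := finite_of_finite_type_of_isJacobsonRing (ResidueField R) (Γ(X.left, U) ⧸ P)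
  have hs : Function.Surjective φ :=
    (IsAlgClosed.algebraMap_bijective_of_isIntegral (k := ResidueField R) (K := Γ(X.left, U) ⧸ P)).2
  letI : Algebra Γ(X.left, U) (X.left.presheaf.stalk x) := (X.left.presheaf.germ U x hxU).hom.toAlgebra
  intro c
  obtain ⟨d, rfl⟩ := X.left.residue_surjective x c
  obtain ⟨⟨a, s⟩, has⟩ := IsLocalization.surj (M := P.primeCompl) d
  obtain ⟨v, hv⟩ := hs (Ideal.Quotient.mk P a / Ideal.Quotient.mk P s.1)
  obtain ⟨r, rfl⟩ := IsLocalRing.residue_surjective v
  refine ⟨r, ?_⟩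
  have hs0 : Ideal.Quotient.mk P s.1 ≠ 0 := fun h => s.2 (Ideal.Quotient.eq_zero_iff_mem.1 h)
  have hmem : ρ X.hom U r * s.1 - a ∈ P := by
    rw [← Ideal.Quotient.eq_zero_iff_mem, map_sub, map_mul, sub_eq_zero]
    rw [eq_div_iff hs0] at hv
    exact hv
  have hgerm : (X.left.presheaf.germ U x hxU).hom (ρ X.hom U r * s.1 - a) ∈ maximalIdeal _ := by
    rw [← IsLocalization.AtPrime.map_eq_maximalIdeal P (X.left.presheaf.stalk x)]
    exact Ideal.mem_map_of_mem _ hmem
  have hst : Models.stalkHom R X x r = (X.left.presheaf.germ U x hxU).hom (ρ X.hom U r) :=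
    (TopCat.Presheaf.germ_res_apply X.left.presheaf (homOfLE (le_top : U ≤ ⊤)) x hxU _).symm
  have hu : IsUnit ((X.left.presheaf.germ U x hxU).hom s.1) :=
    IsLocalization.map_units (M := P.primeCompl) (X.left.presheaf.stalk x) s
  show (X.left.residue x).hom (Models.stalkHom R X x r) = (X.left.residue x).hom d
  refine (hu.map (X.left.residue x).hom).mul_right_cancel ?_
  rw [← map_mul, ← map_mul, hst, ← sub_eq_zero, ← map_sub,
    show d * (X.left.presheaf.germ U x hxU).hom s.1 = (X.left.presheaf.germ U x hxU).hom a from has,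
    ← map_mul, ← map_sub]
  exact (residue_eq_zero_iff _).2 hgerm

/-- On a vertical curve over an algebraically closed field, a regular closed point avoiding a proper closed set. -/
theorem exists_goodPoint {k : Type u} [Field k] [IsAlgClosed k] {Y : Scheme.{u}}
    [Y.Over (Spec (CommRingCat.of k))] [IsProper (Y ↘ Spec (CommRingCat.of k))] [IsIntegral Y]
    (hd : topologicalKrullDim Y = 1) {Z : Set Y} (hZ : IsClosed Z) (hgen : genericPoint Y ∉ Z) :
    ∃ y : Y, IsClosed ({y} : Set Y) ∧ y ∉ Z ∧ IsDiscreteValuationRing (Y.presheaf.stalk y) := by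
  let f := Y ↘ Spec (CommRingCat.of k)
  haveI : LocallyOfFinitePresentation f := LocallyOfFinitePresentation.iff_locallyOfFiniteType.2 inferInstance
  haveI : JacobsonSpace ↥Y := LocallyOfFiniteType.jacobsonSpace f
  obtain ⟨y, ⟨hys, hyZ⟩, hy⟩ := nonempty_inter_closedPoints
    (Z := (f.smoothLocus : Set Y) ∩ Zᶜ) ⟨genericPoint Y, f.genericPoint_mem_smoothLocus_of_perfectField, hgen⟩
    ((f.smoothLocus.2.inter hZ.isOpen_compl).isLocallyClosed)
  haveI := (DepthLib.regular_of_smooth_and_conversely f y).1 hys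
  haveI := CommAlgDim.isDomain_of_isRegularLocalRing (Y.presheaf.stalk y)
  haveI := RegUFDLib.uniqueFactorizationMonoid (Y.presheaf.stalk y)
  exact ⟨y, hy, hyZ, GenusZeroLib.isDiscreteValuationRing_stalk k hd hy inferInstance⟩

variable {R : Type u} [CommRing R] [IsDomain R] [IsDiscreteValuationRing R]
  {X : Over (Spec (CommRingCat.of R))} [IsIntegral X.left] [Flat X.hom] [IsProper X.hom]

theorem stalkIdeal_mono {W : Scheme.{u}} {I J : W.IdealSheafData} (h : I ≤ J) (x : W) :
    IntMult.stalkIdeal I x ≤ IntMult.stalkIdeal J x :=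
  iSup₂_mono fun U _ => Ideal.map_mono (h U)

/-- Degree vectors of horizontal divisors: the basis vectors. -/
theorem exists_inter_eq_ite [HenselianLocalRing R] (hk : IsAlgClosed (ResidueField R))
    {n : ℕ} {Γ : Fin n → ArSurf.VertComp R X} (hΓ : Models.IsComponentList R X Γ) (i : Fin n) :
    ∃ M : X.left.Modules, PicF.IsInvertible M ∧
      ∀ j, ArSurf.inter R X M (Γ j) = if j = i then 1 else 0 := by
  classical
  haveI := hk
  haveI : IsLocallyNoetherian X.left := LocallyOfFiniteType.isLocallyNoetherian X.hom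
  haveI := VertIntLib.isProper_curve (Γ i)
  let ι := (Γ i).ι
  let Z : Set (Γ i).curve.left := ⋃ j ∈ (Finset.univ.erase i : Finset (Fin n)), ι.base ⁻¹' Set.range (Γ j).ι.base
  have hZ : IsClosed Z :=
    isClosed_biUnion_finset fun j _ => (Γ j).ι.isClosedEmbedding.isClosed_range.preimage ι.continuous
  have hgenZ : genericPoint (Γ i).curve.left ∉ Z := by
    simp only [Z, Set.mem_iUnion₂, Finset.mem_erase, not_exists]
    rintro j ⟨hji, -⟩ hj
    refine VertIntLib.genPt_not_mem_of_isFibGen (Γ i) (VertIntLib.isFibGen_of_list hΓ i) (Γ j)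
      (fun h => hji (hΓ.1 h).symm) ?_
    show Models.genPtOf R X (Γ i) ∈ ((Γ j).ι.ker.support : Set X.left)
    rw [Scheme.Hom.support_ker, (Γ j).ι.isClosedEmbedding.isClosed_range.closure_eq]
    exact hj
  obtain ⟨y, hy, hyZ, hdvr⟩ := exists_goodPoint (k := ResidueField R) (Γ i).dim_eq hZ hgenZ
  haveI := hdvr
  set x := ι y with hxdef
  have hxj : ∀ j, j ≠ i → x ∉ Set.range (Γ j).ι.base := fun j hji hj =>
    hyZ (Set.mem_biUnion (Finset.mem_coe.2 (Finset.mem_erase.2 ⟨hji, Finset.mem_univ j⟩)) hj)
  have hx : IsClosed ({x} : Set X.left) := by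
    rw [hxdef, ← Set.image_singleton]; exact ι.isClosedEmbedding.isClosedMap _ hy
  have hxp : X.hom x = closedPoint R := VertIntLib.over_closedPoint (Γ i) y
  obtain ⟨t, ht⟩ := IsDiscreteValuationRing.exists_irreducible ((Γ i).curve.left.presheaf.stalk y)
  obtain ⟨t', ht'⟩ := ι.stalkMap_surjective y t
  obtain ⟨O, hxO, b, hb⟩ := X.left.presheaf.exists_germ_eq t'
  obtain ⟨U, hU, hxU, hUO⟩ := exists_isAffineOpen_mem_and_subset (U := O) hxO
  let f : Γ(X.left, U) := (X.left.presheaf.map (homOfLE (show U ≤ O from hUO)).op).hom b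
  have hfx : (X.left.presheaf.germ U x hxU).hom f = t' := by
    rw [← hb]; exact TopCat.Presheaf.germ_res_apply X.left.presheaf _ _ _ _
  have hgf : ((Γ i).curve.left.presheaf.germ (ι ⁻¹ᵁ U) y hxU).hom ((ι.app U).hom f) = t := by
    rw [← ht', ← hfx]
    exact (Scheme.Hom.germ_stalkMap_apply ι U y hxU f).symm
  have hg0 : (ι.app U).hom f ≠ 0 := fun h0 => ht.ne_zero (by rw [← hgf, h0, map_zero])
  have hf : f ≠ 0 := fun h0 => hg0 (by rw [h0, map_zero])
  have hxf : x ∉ X.left.basicOpen f := by
    intro hm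
    rw [X.left.mem_basicOpen f x hxU, hfx] at hm
    exact ht.not_isUnit (ht' ▸ hm.map (ι.stalkMap y).hom)
  have hiso : ∀ z, z ∈ U → X.hom z = closedPoint R → z ∉ X.left.basicOpen f → z ⤳ x → z = x := by
    intro z hzU hz hzf hzx
    obtain ⟨j, hj⟩ := VertIntLib.cover_of_list hΓ z hz
    obtain rfl : j = i := by
      by_contra hji
      exact hxj j hji (hzx.mem_closed (Γ j).ι.isClosedEmbedding.isClosed_range hj)
    obtain ⟨w, rfl⟩ := hj
    by_contra hwx
    have hwy : w ≠ y := fun h => hwx (by rw [h])
    have hsp : w ⤳ y := ι.isEmbedding.isInducing.specializes_iff.1 hzx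
    have hwgen : w = genericPoint (Γ j).curve.left := by
      by_contra hne
      exact FinPicLib.not_three (Γ j).dim_eq.le ((genericPoint_spec _).specializes trivial) hsp (Ne.symm hne) hwy
    have hmem : w ∈ (Γ j).curve.left.basicOpen ((ι.app U).hom f) := by
      rw [hwgen]
      refine ((genericPoint_spec (Γ j).curve.left).mem_open_set_iff ((Γ j).curve.left.basicOpen _).2).2 ?_
      rw [Set.univ_inter]
      by_contra hne
      rw [Set.not_nonempty_iff_eq_empty] at hne
      exact hg0 ((basicOpen_eq_bot_iff _).1 (Opens.ext hne))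
    rw [← Scheme.preimage_basicOpen] at hmem
    exact hzf hmem
  obtain ⟨D, V, hVU, hxV, hDV, hEff, -, hfib, -⟩ := exists_divisor X.hom hU f hf hxU hx hxf hxp hiso
  obtain ⟨L, hL⟩ := VertIntLib.exists_inverse (IntMultLib.isInvertible_idealMod _ hEff)
  refine ⟨L, VertIntLib.isInvertible_inverse hEff hL, fun j => ?_⟩
  have hgnot : Models.genPtOf R X (Γ j) ∉ D.support := fun h => by
    have hc : IsClosed ({Models.genPtOf R X (Γ j)} : Set X.left) := by
      have := hfib.le ⟨h, VertIntLib.genPt_over (Γ j)⟩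
      rw [Set.mem_singleton_iff] at this
      rw [this]; exact hx
    have he := Set.image_singleton (f := (Γ j).ι.base) (a := genericPoint (Γ j).curve.left)
    have hcl : IsClosed ({genericPoint (Γ j).curve.left} : Set (Γ j).curve.left) := by
      have := hc.preimage (Γ j).ι.continuous
      rwa [Models.genPtOf, ← he, Set.preimage_image_eq _ (Γ j).ι.isEmbedding.injective] at this
    exact GenusZeroLib.ne_genericPoint_of_isClosed (Γ j).dim_eq hcl rfl
  rw [VertIntLib.inter_eq_lengthH (Γ j) hEff hgnot hL]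
  set J := D ⊔ (Γ j).ι.ker with hJdef
  have hsupp : (J.support : Set X.left) = (D.support : Set X.left) ∩ Set.range (Γ j).ι.base := by
    rw [hJdef, Scheme.IdealSheafData.support_sup, Closeds.coe_inf, Scheme.Hom.support_ker]
    show _ ∩ closure (Set.range (Γ j).ι.base) = _
    rw [(Γ j).ι.isClosedEmbedding.isClosed_range.closure_eq]
  have hsupp' : (J.support : Set X.left) = ({x} : Set X.left) ∩ Set.range (Γ j).ι.base := by
    rw [hsupp, ← hfib, Set.inter_assoc]
    congr 1
    refine (Set.inter_eq_right.2 ?_).symm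
    rintro _ ⟨c, rfl⟩
    exact VertIntLib.over_closedPoint (Γ j) c
  rcases eq_or_ne j i with rfl | hji
  · rw [if_pos rfl, lengthH_eq_one (x := x) (hsupp'.trans (Set.inter_eq_left.2 (Set.singleton_subset_iff.2 ⟨y, rfl⟩)))
      ?_ ?_, Nat.cast_one]
    · intro a ha z hz
      obtain ⟨c, hc⟩ : t ∣ (ι.stalkMap y).hom a := by
        rw [← Ideal.mem_span_singleton, ← ht.maximalIdeal_eq]
        exact fun hu => ha ((isUnit_map_iff (ι.stalkMap y).hom a).1 hu)
      obtain ⟨c', hc'⟩ := ι.stalkMap_surjective y c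
      have hdec : a ∈ IntMult.stalkIdeal J x := by
        have h1 : a - c' * t' ∈ IntMult.stalkIdeal J x :=
          stalkIdeal_mono (le_sup_right : ι.ker ≤ J) x (by
            rw [DiagTorLib.stalkIdeal_ker, RingHom.mem_ker, map_sub, map_mul, hc', ht', hc]
            ring)
        have h2 : t' ∈ IntMult.stalkIdeal J x := by
          refine stalkIdeal_mono (le_sup_left : D ≤ J) x ?_
          rw [SDivLib.stalkIdeal_eq D V hxV, hDV, Ideal.map_span, Set.image_singleton,
            TopCat.Presheaf.germ_res_apply, hfx]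
          exact Ideal.mem_span_singleton_self _
        have := Ideal.add_mem _ h1 (Ideal.mul_mem_left _ c' h2)
        rwa [sub_add_cancel] at this
      have key : ∀ x' (h : J.subschemeι z = x') (a : X.left.presheaf.stalk x'), a ∈ IntMult.stalkIdeal J x' →
          (J.subschemeι.stalkMap z).hom (X.left.presheaf.stalkSpecializes (specializes_of_eq h) a) = 0 := by
        rintro x' rfl a' ha'
        rw [TopCat.Presheaf.stalkSpecializes_refl]
        rw [← RingHom.mem_ker]
        show a' ∈ RingHom.ker (J.subschemeι.stalkMap z).hom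
        rw [← DiagTorLib.stalkIdeal_ker J.subschemeι z, Scheme.IdealSheafData.ker_subschemeι]
        exact ha'
      exact key x hz a hdec
    · exact surjective_residue hk x hx hxp
  · rw [if_neg hji]
    have hempty : (J.support : Set X.left) = ∅ := by
      rw [hsupp']
      exact Set.singleton_inter_eq_empty.2 (hxj j hji)
    exact_mod_cast lengthH_eq_zero hempty

end HorizLib
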